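import Mathlib

/-!
# The finite arithmetic check for three self-centralizing subgroups
-/

set_option autoImplicit false

namespace CfsgLib.SuzSelfCent

/-- No multiple of `L` lies between the bounds. -/
def noMult (N V A K cc j L : ℤ) : Bool :=
  decide (A + j * N < 0) ||
    decide (2 * (min (3 * N * N) ((A + j * N) * (A + j * N) / K) / L * L) < 2 * (1 + V) + cc * N * N)

theorem noMult_false {N V A K cc j L g J : ℤ} (hK : 0 < K) (hL : 0 < L) (hdvd : L ∣ g)
    (hlo : 2 * (1 + V) + cc * N * N ≤ 2 * g) (hg : g ≤ 3 * N * N) (hJ0 : 0 ≤ J)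
    (hJ : J ≤ A + j * N) (hKg : K * g ≤ J * J) : noMult N V A K cc j L = false := by
  simp only [noMult, Bool.or_eq_false_iff, decide_eq_false_iff_not, not_lt]
  refine ⟨hJ0.trans hJ, hlo.trans (mul_le_mul_of_nonneg_left ?_ (by norm_num))⟩
  refine le_trans (le_of_eq (Int.ediv_mul_cancel hdvd).symm)
    (mul_le_mul_of_nonneg_right (Int.ediv_le_ediv hL (le_min hg ?_)) hL.le)
  refine (Int.le_ediv_iff_mul_le hK).2 ?_
  calc g * K = K * g := mul_comm _ _
    _ ≤ J * J := hKg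
    _ ≤ _ := mul_le_mul hJ hJ hJ0 (hJ0.trans hJ)

/-- The signs. -/
def signs : List ℤ := [1, -1]

/-- The main case at given `k₁, k₂, k₃`. -/
def mainAt (k1 k2 k3 : ℕ) : Bool :=
  signs.all fun s => (List.range (2 * k1 + 1)).all fun x' =>
    let x : ℤ := (x' : ℤ) + 1
    let n : ℤ := 2 * (k1 : ℤ) + 1
    let n2 : ℤ := 4 * (k2 : ℤ) + 1
    let n3 : ℤ := 4 * (k3 : ℤ) + 1
    let X : ℤ := n2 * n3 * x
    let m : ℤ := X - s
    decide ((m - s) % n ≠ 0) ||
      (List.range (2 * (4 * k2 + 1) * (x' + 1) / (2 * k1 + 1) + 1)).all fun y' =>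
        let Y : ℤ := n * n3 * ((y' : ℤ) + 1)
        let Z : ℤ := 2 * (m - s) - Y
        decide (Z ≤ 0) || decide (Z % (n * n2) ≠ 0) ||
          (let N : ℤ := n * n2 * n3
           let K : ℤ := (k1 : ℤ) + k2 + k3
           let A : ℤ := m + k1 * X + k2 * Y + k3 * Z
           let V : ℤ := m * m + k1 * X * X + k2 * Y * Y + k3 * Z * Z
           let L : ℤ := (Int.lcm N (Int.lcm m X : ℕ) : ℕ)
           noMult N V A K 2 1 L && noMult N V A K 3 2 L && noMult N V A K 5 3 L)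

/-- The case `d₂₁ = s` and `d₃₂ = 0` at given `k₂, k₃`. -/
def caseAAt (k2 k3 : ℕ) : Bool :=
  signs.all fun s => (List.range (5 * (4 * k2 + 1))).all fun x' =>
    let n2 : ℤ := 4 * (k2 : ℤ) + 1
    let n3 : ℤ := 4 * (k3 : ℤ) + 1
    let X : ℤ := n3 * ((x' : ℤ) + 1)
    let θ : ℤ := X - s
    decide ((X - s) % n2 ≠ 0) || decide ((X - 2 * s) % 5 ≠ 0) ||
      (List.range (4 * k2 + 1)).all fun y' =>
        let Y : ℤ := 5 * n3 * ((y' : ℤ) + 1)
        let pt : ℤ := Y - 2 * X - s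
        decide (pt = 0) || decide (pt % 5 ≠ 0) || decide ((Y - 4 * s) % n2 ≠ 0) ||
          signs.all fun t => (List.range (4 * k3 + 1)).all fun z' =>
            let Z : ℤ := 5 * n2 * ((z' : ℤ) + 1)
            decide ((Z - 4 * t) % n3 ≠ 0) ||
              (let Φ : ℤ := Z - t * (1 - s * θ - s * pt)
               decide (Φ = 0) || decide (Φ % (5 * n2) ≠ 0) ||
                 (let N : ℤ := 5 * n2 * n3
                  let K : ℤ := 2 + (k2 : ℤ) + k3
                  let A : ℤ := θ + 2 * X + k2 * Y + k3 * Z + Φ - pt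
                  let V : ℤ := θ * θ + 2 * X * X + k2 * Y * Y + k3 * Z * Z + pt * pt + Φ * Φ
                  decide (A % N ≠ 0) ||
                    (let L : ℤ := (Int.lcm N (Int.lcm θ (Int.lcm X pt : ℕ) : ℕ) : ℕ)
                     noMult N V A K 2 1 L && noMult N V A K 4 2 L)))

/-- The case `d₂₁ = s` and `d₃₂ = s` at given `k₃`. -/
def caseBAt (k3 : ℕ) : Bool :=
  signs.all fun s => (List.range 45).all fun x' =>
    let n3 : ℤ := 4 * (k3 : ℤ) + 1
    let X : ℤ := n3 * ((x' : ℤ) + 1)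
    let θ : ℤ := X - s
    decide ((X - s) % 9 ≠ 0) || decide ((X - 2 * s) % 5 ≠ 0) ||
      (List.range (9 * (4 * k3 + 1))).all fun y' =>
        let Y : ℤ := 5 * ((y' : ℤ) + 1)
        decide ((Y - s) % n3 ≠ 0) || decide ((Y - 4 * s) % 9 ≠ 0) ||
          (let Z : ℤ := 2 * Y - θ + s
           let Φ : ℤ := s + 2 * X - Y
           decide (Z ≤ 0) || decide (Φ = 0) || decide (Z % (5 * 9) ≠ 0) ||
             decide (Φ % (5 * n3) ≠ 0) ||
               (let N : ℤ := 5 * 9 * n3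
                let K : ℤ := 4 + (k3 : ℤ)
                let A : ℤ := θ + 2 * X + 2 * Y + k3 * Z + Φ
                let V : ℤ := θ * θ + 2 * X * X + 2 * Y * Y + k3 * Z * Z + Φ * Φ
                let L : ℤ := (Int.lcm N (Int.lcm θ X : ℕ) : ℕ)
                noMult N V A K 2 1 L && noMult N V A K 4 2 L))

/-- The whole check. -/
def chkAll : Bool :=
  (List.range 15).all fun a => (List.range 15).all fun b => (List.range 15).all fun c =>
    decide (20 < (a + 2) + (b + 2) + (c + 2)) ||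
      decide (Nat.gcd (2 * (a + 2) + 1) (4 * (b + 2) + 1) ≠ 1) ||
      decide (Nat.gcd (2 * (a + 2) + 1) (4 * (c + 2) + 1) ≠ 1) ||
      decide (Nat.gcd (4 * (b + 2) + 1) (4 * (c + 2) + 1) ≠ 1) ||
      (mainAt (a + 2) (b + 2) (c + 2) &&
        (decide (a ≠ 0) || (caseAAt (b + 2) (c + 2) && (decide (b ≠ 0) || caseBAt (c + 2)))))

theorem chkAll_true : chkAll = true := by decide +kernel

theorem chk_at {k1 k2 k3 : ℕ} (h1 : 2 ≤ k1) (h2 : 2 ≤ k2) (h3 : 2 ≤ k3) (hs : k1 + k2 + k3 ≤ 20)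
    (c12 : Nat.Coprime (2 * k1 + 1) (4 * k2 + 1)) (c13 : Nat.Coprime (2 * k1 + 1) (4 * k3 + 1))
    (c23 : Nat.Coprime (4 * k2 + 1) (4 * k3 + 1)) :
    mainAt k1 k2 k3 = true ∧ (k1 = 2 → caseAAt k2 k3 = true) ∧
      (k1 = 2 → k2 = 2 → caseBAt k3 = true) := by
  obtain ⟨a, rfl⟩ : ∃ a, k1 = a + 2 := ⟨k1 - 2, by omega⟩
  obtain ⟨b, rfl⟩ : ∃ b, k2 = b + 2 := ⟨k2 - 2, by omega⟩
  obtain ⟨c, rfl⟩ : ∃ c, k3 = c + 2 := ⟨k3 - 2, by omega⟩
  have h := List.all_eq_true.1 (List.all_eq_true.1 (List.all_eq_true.1 chkAll_true a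
    (List.mem_range.2 (by omega))) b (List.mem_range.2 (by omega))) c (List.mem_range.2 (by omega))
  simp only [Bool.or_eq_true, Bool.and_eq_true, decide_eq_true_eq] at h
  rcases h with (((h | h) | h) | h) | ⟨hm, hA⟩
  · omega
  · exact absurd c12 h
  · exact absurd c13 h
  · exact absurd c23 h
  · refine ⟨hm, fun ha => ?_, fun ha hb => ?_⟩
    · rcases hA with hA | ⟨hA, -⟩
      · omega
      · exact hA
    · rcases hA with hA | ⟨-, hB | hB⟩
      · omega
      · omega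
      · exact hB

end CfsgLib.SuzSelfCent
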