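import Cfsg.Agent.Lib.SuzSelfCent.Dat
import Cfsg.Agent.Lib.SuzSelfCent.Check

/-!
# The first consequences and the bound on the sum of the three indices
-/

set_option autoImplicit false

namespace CfsgLib.SuzSelfCent

universe u

variable {ι : Type u} [DecidableEq ι] (D : Dat ι)

namespace Dat

/-- The nonprincipal characters outside the families. -/
def W : Finset ι := D.U.erase D.one

theorem mem_U {χ : ι} (h : χ ∈ D.W) : χ ∈ D.U := Finset.mem_of_mem_erase h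

theorem sumU (f : ι → ℤ) : ∑ χ ∈ D.U, f χ = f D.one + ∑ χ ∈ D.W, f χ :=
  (Finset.add_sum_erase D.U f D.one_mem).symm

theorem N_pos : 0 < D.N := by
  have := D.num1.two_le; have := D.num2.two_le; have := D.num3.two_le
  unfold Dat.N
  positivity

theorem invol' : D.J = ∑ χ ∈ D.W, D.ν χ * D.deg χ + (D.k1 * D.X + D.k2 * D.Y + D.k3 * D.Z) := by
  have h := D.invol
  rw [D.sumU, D.ν_one, D.deg_one] at h
  linear_combination h

theorem order' : D.g = 1 + ∑ χ ∈ D.W, D.deg χ ^ 2 +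
    (D.k1 * D.X ^ 2 + D.k2 * D.Y ^ 2 + D.k3 * D.Z ^ 2) := by
  rw [D.order, D.sumU, D.deg_one, one_pow]

theorem N_dvd_of (χ : ι) (hχ : χ ∈ D.U) (h1 : D.c1 χ = 0) (h2 : D.c2 χ = 0) (h3 : D.c3 χ = 0) :
    D.N ∣ D.deg χ := by
  have a := D.cong1 χ hχ
  have b := D.cong2 χ hχ
  have c := D.cong3 χ hχ
  rw [h1, sub_zero] at a
  rw [h2, sub_zero] at b
  rw [h3, sub_zero] at c
  exact (D.cop13.mul_left D.cop23).mul_dvd (D.cop12.mul_dvd a b) c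

theorem g_le' : D.g ≤ 3 * D.N * D.N := by
  have h := D.g_le
  rw [pow_two, ← mul_assoc] at h
  exact h

/-- Small sums of squares bound the mixed sums. -/
theorem abs_sum_mul_le (s : Finset ι) (f h : ι → ℤ) :
    2 * |∑ χ ∈ s, f χ * h χ| ≤ ∑ χ ∈ s, f χ ^ 2 + ∑ χ ∈ s, h χ ^ 2 := by
  rw [← Finset.sum_add_distrib]
  refine le_trans (mul_le_mul_of_nonneg_left (Finset.abs_sum_le_sum_abs _ _) (by norm_num)) ?_
  rw [Finset.mul_sum]
  refine Finset.sum_le_sum fun χ _ => ?_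
  rw [abs_mul]
  nlinarith [sq_nonneg (|f χ| - |h χ|), sq_abs (f χ), sq_abs (h χ)]

/-- What the first subgroup forces. -/
theorem first : ∃ θ ∈ D.W, ∃ s : ℤ, (s = 1 ∨ s = -1) ∧ D.c1 θ = s ∧ D.ν θ = 1 ∧ D.σ1 = -s ∧
    (∀ χ ∈ D.W, χ ≠ θ → D.c1 χ = 0) ∧ D.d12 = 0 ∧ D.d13 = 0 ∧ D.X = D.deg θ + s ∧
    D.c2 θ = D.d21 - s ∧ D.c3 θ = D.d31 - s := by
  have hk2 := D.num2.two_le
  have hk3 := D.num3.two_le
  have hn := D.norm1
  rw [D.sumU, D.c1_one, one_pow] at hn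
  have hs0 : 0 ≤ ∑ χ ∈ D.W, D.c1 χ ^ 2 := Finset.sum_nonneg fun _ _ => sq_nonneg _
  have hq := D.num1.q_nonneg
  have h12 : D.d12 = 0 := by
    by_contra h
    nlinarith [Int.one_le_abs h, sq_abs D.d12, mul_nonneg (by omega : 0 ≤ D.k3) (sq_nonneg D.d13)]
  have h13 : D.d13 = 0 := by
    by_contra h
    nlinarith [Int.one_le_abs h, sq_abs D.d13, mul_nonneg (by omega : 0 ≤ D.k2) (sq_nonneg D.d12)]
  have hn' : ∑ χ ∈ D.W, D.c1 χ ^ 2 + D.q1 = 1 := by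
    rw [h12, h13] at hn
    linear_combination hn
  have hq0 : D.q1 = 0 := by
    by_contra h
    have h0 := sq_sum_zero (f := D.c1) (s := D.W) (by omega)
    have hf := D.fs1
    rw [D.sumU, D.ν_one, D.c1_one, h12, h13,
      Finset.sum_eq_zero (s := D.W) (fun χ hχ => by rw [h0 χ hχ, mul_zero])] at hf
    exact D.num1.σ_ne (by linear_combination hf)
  rw [hq0, add_zero] at hn'
  obtain ⟨θ, hθ, hv, hrest⟩ := sq_sum_pick hn' (by norm_num) (by norm_num)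
  have hz : ∀ χ ∈ D.W, χ ≠ θ → D.c1 χ = 0 := fun χ hχ hne =>
    sq_sum_zero (by simpa using hrest) χ (Finset.mem_erase.2 ⟨hne, hχ⟩)
  have hone : ∀ f : ι → ℤ, ∑ χ ∈ D.U, D.c1 χ * f χ = f D.one + D.c1 θ * f θ := fun f => by
    rw [D.sumU, D.c1_one, one_mul, Finset.sum_eq_single_of_mem θ hθ
      (fun χ hχ hne => by rw [hz χ hχ hne, zero_mul])]
  have hf := D.fs1
  rw [Finset.sum_congr rfl (fun χ _ => mul_comm (D.ν χ) (D.c1 χ)), hone, D.ν_one, h12, h13] at hf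
  have hd := D.dega1
  rw [hone, D.deg_one, h12, h13] at hd
  have hm := D.deg_pos θ (D.mem_U hθ)
  have hX := D.X_pos
  have hσ := D.num1.q_zero hq0
  have hν := D.ν_cases θ (D.mem_U hθ)
  have key : D.ν θ = 1 ∧ D.σ1 = -D.c1 θ ∧ D.X = D.deg θ + D.c1 θ := by
    rcases hv with e | e <;> rcases hσ with e' | e' <;> rcases hν with e'' | e'' | e'' <;>
      simp only [e, e', e'', zero_mul, mul_zero, one_mul, mul_one, neg_mul, mul_neg, neg_neg,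
        add_zero] at hf hd ⊢ <;> first | omega | exact ⟨trivial, trivial, by omega⟩
  obtain ⟨k1, k2, k3⟩ := key
  have ho2 := D.orth12
  rw [hone, D.c2_one, h12, h13, k2] at ho2
  have ho3 := D.orth13
  rw [hone, D.c3_one, h12, h13, k2] at ho3
  refine ⟨θ, hθ, D.c1 θ, hv, rfl, k1, k2, hz, h12, h13, k3, ?_, ?_⟩
  · rcases hv with e | e <;> rw [e] at ho2 ⊢ <;> linarith
  · rcases hv with e | e <;> rw [e] at ho3 ⊢ <;> linarith

/-- Either the characters in `T` are all, or the group is small enough for the finite check. -/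
theorem rest (T : Finset ι) (hT : T ⊆ D.W) (hT3 : T.card ≤ 3)
    (hR : ∀ χ ∈ D.W, χ ∉ T → D.c1 χ = 0 ∧ D.c2 χ = 0 ∧ D.c3 χ = 0) :
    D.U.card ≤ T.card + 1 ∨ ∃ r : ℤ, (r = 1 ∨ r = 2) ∧
      D.N ∣ ∑ χ ∈ T, D.ν χ * D.deg χ + (D.k1 * D.X + D.k2 * D.Y + D.k3 * D.Z) ∧
      D.J ≤ ∑ χ ∈ T, D.ν χ * D.deg χ + (D.k1 * D.X + D.k2 * D.Y + D.k3 * D.Z) + r * D.N ∧
      1 + (∑ χ ∈ T, D.deg χ ^ 2 + (D.k1 * D.X ^ 2 + D.k2 * D.Y ^ 2 + D.k3 * D.Z ^ 2)) +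
        r * (D.N * D.N) ≤ D.g ∧
      D.k1 + D.k2 + D.k3 ≤ 20 := by
  classical
  by_cases hWT : D.W = T
  · refine Or.inl ?_
    rw [← hWT, W, Finset.card_erase_add_one D.one_mem]
  refine Or.inr ?_
  have hdiv : ∀ χ ∈ D.W \ T, ∃ a : ℤ, D.deg χ = D.N * a ∧ 1 ≤ a := by
    intro χ hχ
    obtain ⟨hχW, hχT⟩ := Finset.mem_sdiff.1 hχ
    obtain ⟨h1, h2, h3⟩ := hR χ hχW hχT
    obtain ⟨a, ha⟩ := D.N_dvd_of χ (D.mem_U hχW) h1 h2 h3
    have h4 := D.deg_pos χ (D.mem_U hχW)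
    rw [ha] at h4
    exact ⟨a, ha, pos_of_mul_pos_right h4 D.N_pos.le⟩
  choose! a ha ha1 using hdiv
  set r := ∑ χ ∈ D.W \ T, a χ ^ 2 with hr
  set Q := ∑ χ ∈ T, D.ν χ * D.deg χ + (D.k1 * D.X + D.k2 * D.Y + D.k3 * D.Z) with hQ
  set V := ∑ χ ∈ T, D.deg χ ^ 2 + (D.k1 * D.X ^ 2 + D.k2 * D.Y ^ 2 + D.k3 * D.Z ^ 2) with hV
  have hJ : D.J = Q + (∑ χ ∈ D.W \ T, D.ν χ * a χ) * D.N := by
    rw [D.invol', ← Finset.sum_sdiff hT, hQ, Finset.sum_mul,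
      Finset.sum_congr rfl (fun χ hχ => show D.ν χ * D.deg χ = D.ν χ * a χ * D.N by
        rw [ha χ hχ]; ring)]
    ring
  have hg : D.g = 1 + V + r * (D.N * D.N) := by
    rw [D.order', ← Finset.sum_sdiff hT, hV, hr, Finset.sum_mul,
      Finset.sum_congr rfl (fun χ hχ => show D.deg χ ^ 2 = a χ ^ 2 * (D.N * D.N) by
        rw [ha χ hχ]; ring)]
    ring
  have hle : ∑ χ ∈ D.W \ T, D.ν χ * a χ ≤ r := by
    refine Finset.sum_le_sum fun χ hχ => ?_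
    have h1 := ha1 χ hχ
    rcases D.ν_cases χ (D.mem_U (Finset.mem_sdiff.1 hχ).1) with e | e | e <;> rw [e] <;> nlinarith
  have hr1 : 1 ≤ r := by
    obtain ⟨χ, hχ⟩ : (D.W \ T).Nonempty :=
      Finset.sdiff_nonempty.2 fun h => hWT (Finset.Subset.antisymm h hT)
    refine le_trans ?_ (Finset.single_le_sum (fun χ _ => sq_nonneg (a χ)) hχ)
    nlinarith [ha1 χ hχ]
  have hk1 := D.num1.two_le
  have hk2 := D.num2.two_le
  have hk3 := D.num3.two_le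
  have hV0 : 0 ≤ V := by
    have : 0 ≤ ∑ χ ∈ T, D.deg χ ^ 2 := Finset.sum_nonneg fun _ _ => sq_nonneg _
    rw [hV]; positivity
  have hg3 := D.g_le'
  have hN := D.N_pos
  have hN2 : 0 < D.N * D.N := mul_pos hN hN
  have hr2 : r ≤ 2 := by nlinarith
  have hrc : r = 1 ∨ r = 2 := by omega
  refine ⟨r, hrc, ?_, ?_, le_of_eq hg.symm, ?_⟩
  · rw [show Q = D.J - (∑ χ ∈ D.W \ T, D.ν χ * a χ) * D.N by linarith]
    exact dvd_sub D.N_dvd_J (dvd_mul_left _ _)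
  · rw [hJ]; exact add_le_add_right (mul_le_mul_of_nonneg_right hle hN.le) _
  -- the bound on the sum of the indices
  have hJ' : D.J ≤ |Q| + r * D.N := by
    rw [hJ]; exact add_le_add (le_abs_self Q) (mul_le_mul_of_nonneg_right hle hN.le)
  set a' := ∑ χ ∈ T, D.ν χ * D.deg χ with ha'
  set b' := D.k1 * D.X + D.k2 * D.Y + D.k3 * D.Z with hb'
  have hA : a' ^ 2 ≤ 3 * ∑ χ ∈ T, D.deg χ ^ 2 := by
    refine le_trans (sq_sum_le_card_mul_sum_sq (s := T)) ?_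
    refine mul_le_mul (by exact_mod_cast hT3) (Finset.sum_le_sum fun χ hχ => ?_)
      (Finset.sum_nonneg fun _ _ => sq_nonneg _) (by norm_num)
    rcases D.ν_cases χ (D.mem_U (hT hχ)) with e | e | e <;> rw [e] <;>
      nlinarith [sq_nonneg (D.deg χ)]
  have hB : b' ^ 2 ≤ (D.k1 + D.k2 + D.k3) * (D.k1 * D.X ^ 2 + D.k2 * D.Y ^ 2 + D.k3 * D.Z ^ 2) := by
    rw [hb']
    nlinarith [mul_nonneg (mul_nonneg (by omega : 0 ≤ D.k1) (by omega : 0 ≤ D.k2)) (sq_nonneg (D.X - D.Y)),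
      mul_nonneg (mul_nonneg (by omega : 0 ≤ D.k1) (by omega : 0 ≤ D.k3)) (sq_nonneg (D.X - D.Z)),
      mul_nonneg (mul_nonneg (by omega : 0 ≤ D.k2) (by omega : 0 ≤ D.k3)) (sq_nonneg (D.Y - D.Z))]
  have hQ2 : Q ^ 2 ≤ (D.k1 + D.k2 + D.k3 + 3) * V := by
    set K := D.k1 + D.k2 + D.k3
    have hK : 0 < K := by omega
    have h3K : 0 < 3 * K := by omega
    refine le_of_mul_le_mul_left ?_ h3K
    calc 3 * K * Q ^ 2 ≤ 3 * K * Q ^ 2 + (K * a' - 3 * b') ^ 2 := le_add_of_nonneg_right (sq_nonneg _)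
      _ = (K + 3) * (K * a' ^ 2 + 3 * b' ^ 2) := by rw [hQ]; ring
      _ ≤ (K + 3) * (K * (3 * ∑ χ ∈ T, D.deg χ ^ 2) +
            3 * (K * (D.k1 * D.X ^ 2 + D.k2 * D.Y ^ 2 + D.k3 * D.Z ^ 2))) := by gcongr
      _ = 3 * K * ((K + 3) * V) := by rw [hV]; ring
  have hJ2 : 7 * (D.J * D.J) ≤ 8 * Q ^ 2 + 56 * (r * D.N) ^ 2 := by
    have h1 : D.J * D.J ≤ (|Q| + r * D.N) * (|Q| + r * D.N) :=
      mul_le_mul hJ' hJ' D.J_nonneg (D.J_nonneg.trans hJ')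
    nlinarith [sq_nonneg (|Q| - 7 * (r * D.N)), sq_abs Q]
  by_contra hK
  have hJs := D.J_sq
  rw [hg] at hJs
  have hV2 : V ≤ (3 - r) * (D.N * D.N) := by linarith
  have hfac : 7 * (D.k1 + D.k2 + D.k3) * (V + r * (D.N * D.N)) ≤
      8 * ((D.k1 + D.k2 + D.k3 + 3) * V) + 56 * (r * D.N) ^ 2 := by nlinarith
  rcases hrc with e | e <;> rw [e] at hfac hV2 <;>
    nlinarith [mul_le_mul_of_nonneg_left hV2 (by omega : 0 ≤ D.k1 + D.k2 + D.k3 + 24)]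

end Dat

end CfsgLib.SuzSelfCent
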