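import Cfsg.Agent.Lib.SuzSelfCent.CaseA

/-!
# The last case, and the bound on the number of characters
-/

set_option autoImplicit false

namespace CfsgLib.SuzSelfCent

universe u

variable {ι : Type u} [DecidableEq ι] (D : Dat ι)

namespace Dat

variable {D} {θ : ι} {s : ℤ}

/-- The case `d₃₂ ≠ 0`. -/
theorem Base.caseB (B : D.Base θ s) (hp : D.d21 ≠ 0) (h32 : D.d32 ≠ 0) : D.U.card ≤ 4 := by
  obtain ⟨e2, ek, e3, h23, hσ2, ψ, hψ, hνu, hu, hz2, hY, hcψ⟩ := B.psi hp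
  have hs := B.sq
  have hk2 := D.num2.two_le
  have hk3 := D.num3.two_le
  have hψW := Finset.mem_of_mem_erase hψ
  have b3 := B.budget3
  rw [e3] at b3
  have hS : 0 ≤ ∑ χ ∈ D.W.erase θ, D.c3 χ ^ 2 := Finset.sum_nonneg fun _ _ => sq_nonneg _
  have hq0 := D.num3.q_nonneg
  have hd : 1 ≤ D.d32 ^ 2 := by nlinarith [Int.one_le_abs h32, sq_abs D.d32]
  have hkd : D.k2 ≤ D.k2 * D.d32 ^ 2 := le_mul_of_one_le_right (by omega) hd
  have hb : ∑ χ ∈ D.W.erase θ, D.c3 χ ^ 2 + D.k2 * D.d32 ^ 2 + D.q3 = 2 := by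
    linear_combination b3 - hs
  have ek2 : D.k2 = 2 := by omega
  rw [ek2] at hb
  have hz3 : ∀ χ ∈ D.W.erase θ, D.c3 χ = 0 := sq_sum_zero (by omega)
  have hq : D.q3 = 0 := by omega
  rw [hz3 ψ hψ, mul_zero, add_zero] at hcψ
  have hd32 : D.d32 = s := by linear_combination (-s) * hcψ - (D.d32 + s * 0) * hs + 0 * hs
  have hf := B.fs3'
  rw [e3, hd32, ek2, Finset.sum_eq_zero (s := D.W.erase θ) (fun χ hχ => by
    rw [hz3 χ hχ, mul_zero])] at hf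
  have hσ3 : D.σ3 = -s := by linear_combination hf
  have hZ := B.dega3'
  rw [e3, hd32, ek2, hσ3, Finset.sum_eq_zero (s := D.W.erase θ) (fun χ hχ => by
    rw [hz3 χ hχ, zero_mul])] at hZ
  have hu2 : D.c2 ψ * D.c2 ψ = 1 := sign_sq hu
  have hZeq : D.Z = 2 * D.Y - D.deg θ + s := by
    linear_combination (-s) * hZ - (D.Z - 2 * D.Y + D.deg θ) * hs
  have hφν : D.ν ψ * D.deg ψ = s + 2 * D.X - D.Y := by
    linear_combination (D.c2 ψ * D.deg ψ) * hνu - (D.ν ψ * D.deg ψ) * hu2 - s * hY -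
      (D.Y - 2 * D.X) * hs
  have hθ : D.deg θ = D.X - s := by linarith [B.X_eq]
  have hm := D.deg_pos θ (D.mem_U B.mem)
  -- the remaining characters
  have hT : ({θ, ψ} : Finset ι) ⊆ D.W := by simp [Finset.insert_subset_iff, B.mem, hψW]
  have hR : ∀ χ ∈ D.W, χ ∉ ({θ, ψ} : Finset ι) → D.c1 χ = 0 ∧ D.c2 χ = 0 ∧ D.c3 χ = 0 := by
    intro χ hχ hχT
    simp only [Finset.mem_insert, Finset.mem_singleton, not_or] at hχT
    obtain ⟨a1, a2⟩ := hχT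
    have hχ' : χ ∈ D.W.erase θ := Finset.mem_erase.2 ⟨a1, hχ⟩
    exact ⟨B.c1z χ hχ a1, hz2 χ hχ' a2, hz3 χ hχ'⟩
  have n1 : θ ≠ ψ := (Finset.ne_of_mem_erase hψ).symm
  rcases D.rest _ hT (Finset.card_le_two.trans (by norm_num)) hR with h | ⟨r, hr', -, hJ, hg, hK⟩
  · have := Finset.card_le_two (a := θ) (b := ψ)
    omega
  exfalso
  simp only [Finset.sum_pair n1, B.νθ, one_mul, hφν] at hJ hg
  set Φ := s + 2 * D.X - D.Y with hΦdef
  have hψU := D.mem_U hψW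
  have hψ0 := D.deg_pos ψ hψU
  have hν2 : D.ν ψ * D.ν ψ = 1 := by
    linear_combination (D.ν ψ * D.c2 ψ - s) * hνu + hs - (D.ν ψ * D.ν ψ) * hu2
  have hφd : D.deg ψ ^ 2 = Φ * Φ := by
    linear_combination (D.ν ψ * D.deg ψ + Φ) * hφν - D.deg ψ ^ 2 * hν2
  rw [hφd, ek, ek2] at hg
  rw [ek, ek2] at hJ
  obtain ⟨c, hc⟩ := Int.eq_ofNat_of_zero_le (by omega : 0 ≤ D.k3)
  have hN : D.N = 5 * 9 * (4 * D.k3 + 1) := by rw [Dat.N, ek, ek2]; norm_num
  have h5 : 2 * D.k1 + 1 = 5 := by rw [ek]; norm_num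
  have h9 : 4 * D.k2 + 1 = 9 := by rw [ek2]; norm_num
  have c12 : IsCoprime (5 : ℤ) 9 := by simpa [h5, h9] using D.cop12
  have c13 : IsCoprime (5 : ℤ) (4 * D.k3 + 1) := h5 ▸ D.cop13
  have c23 : IsCoprime (9 : ℤ) (4 * D.k3 + 1) := h9 ▸ D.cop23
  have hcop : Nat.Coprime (2 * 2 + 1) (4 * c + 1) ∧ Nat.Coprime (4 * 2 + 1) (4 * c + 1) := by
    simp only [← Nat.isCoprime_iff_coprime]
    push_cast
    rw [← hc]
    exact ⟨by norm_num; exact c13, by norm_num; exact c23⟩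
  obtain ⟨-, -, hB⟩ := chk_at le_rfl le_rfl (by omega : 2 ≤ c) (by omega) (by norm_num)
    hcop.1 hcop.2
  have cX2 : (9 : ℤ) ∣ D.X - s := by simpa [e2, h9] using D.congX2
  have cX5 : (5 : ℤ) ∣ D.X - 2 * s := by
    have h := D.congX1
    rw [h5, B.σ1] at h
    rwa [mul_neg, ← sub_eq_add_neg] at h
  obtain ⟨x, hx⟩ : 4 * D.k3 + 1 ∣ D.X := by simpa [e3] using D.congX3
  obtain ⟨y, hy⟩ : (5 : ℤ) ∣ D.Y := by simpa [B.d12, h5] using D.congY1
  have hY3 : 4 * D.k3 + 1 ∣ D.Y - s := by simpa [hd32] using D.congY3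
  have hY2 : (9 : ℤ) ∣ D.Y - 4 * s := by
    have h := D.congY2
    rw [h9, hσ2] at h
    rwa [mul_neg, ← sub_eq_add_neg] at h
  have hZd : (5 * 9 : ℤ) ∣ D.Z := by
    refine c12.mul_dvd ?_ ?_
    · simpa [B.d13, h5] using D.congZ1
    · simpa [h23, h9] using D.congZ2
  have hΦ0 : Φ ≠ 0 := by
    intro h0
    rw [h0] at hφd
    nlinarith
  have hΦd : 5 * (4 * D.k3 + 1) ∣ Φ := by
    rw [← hφν]
    refine dvd_mul_of_dvd_right (c13.mul_dvd ?_ ?_) _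
    · simpa [h5, B.c1z ψ hψW n1.symm] using D.cong1 ψ hψU
    · simpa [hz3 ψ hψ] using D.cong3 ψ hψU
  have hg3 := D.g_le'
  have hNpos := D.N_pos
  set N := D.N with hNdef
  have hNN : 0 ≤ N * N := mul_self_nonneg N
  have pp : 0 ≤ Φ * Φ := mul_self_nonneg _
  have p0 : 0 ≤ D.deg θ ^ 2 := sq_nonneg _
  have pY : 0 ≤ D.Y ^ 2 := sq_nonneg _
  have pX : 0 ≤ D.X ^ 2 := sq_nonneg _
  have pZ : 0 ≤ D.k3 * D.Z ^ 2 := mul_nonneg (by omega) (sq_nonneg _)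
  have hXN : D.X ≤ N := le_of_sq_lt hNpos.le (by rcases hr' with e | e <;> rw [e] at hg <;> linarith)
  have hYN : D.Y ≤ N := le_of_sq_lt hNpos.le (by rcases hr' with e | e <;> rw [e] at hg <;> linarith)
  have p3 : 0 < 4 * D.k3 + 1 := by omega
  have hx1 : 1 ≤ x := pos_of_mul_pos_right (hx ▸ D.X_pos) p3.le
  have hy1 : 1 ≤ y := pos_of_mul_pos_right (hy ▸ D.Y_pos) (by norm_num)
  have hx' : x ≤ 45 := by
    refine le_of_mul_le_mul_left ?_ p3
    rw [← hx]; exact hXN.trans_eq (by rw [hN]; ring)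
  have hy' : y ≤ 9 * (4 * D.k3 + 1) := by
    refine le_of_mul_le_mul_left ?_ (by norm_num : (0 : ℤ) < 5)
    rw [← hy]; exact hYN.trans_eq (by rw [hN]; ring)
  have hJsq := D.J_sq
  rw [ek, ek2, hc] at hJsq
  have hgpos : 0 < D.g := by
    rcases hr' with e | e <;> rw [e] at hg <;> linarith
  refine false_of_caseBAt (hB rfl rfl) B.sign hx1 hx' hy1 (by omega)
    (g := D.g) (J := D.J) (N := N) (X := D.X) (θ := D.deg θ) (Y := D.Y) (Z := D.Z)
    (Φ := Φ) ?_ ?_ hθ cX2 cX5 hy ?_ hY2 hZeq D.Z_pos hZd rfl hΦ0 ?_ rfl rfl hgpos D.N_dvd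
    (D.dvd_g θ (D.mem_U B.mem)) D.X_dvd hg3 D.J_nonneg ?_ ?_
  all_goals simp only [← hc, ← hx]
  · exact hN
  · exact hY3
  · exact hΦd
  · rw [← hc] at hJsq; linarith
  · rcases hr' with e | e <;> rw [e] at hJ hg
    · exact Or.inl ⟨by linarith, by linarith⟩
    · exact Or.inr ⟨by linarith, by linarith⟩

variable (D)

/-- At most four irreducible characters lie outside the three families. -/
theorem card_le : D.U.card ≤ 4 := by
  obtain ⟨θ, s, B⟩ := D.exists_base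
  by_cases h2 : D.d21 = 0
  · by_cases h3 : D.d31 = 0
    · exact B.main h2 h3
    · by_cases h : D.swap.d32 = 0
      · exact B.swap.caseA h3 h
      · exact B.swap.caseB h3 h
  · by_cases h : D.d32 = 0
    · exact B.caseA h2 h
    · exact B.caseB h2 h

end Dat

end CfsgLib.SuzSelfCent
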