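import Cfsg.Agent.Lib.SuzSelfCent.Columns
import Cfsg.Agent.Lib.SuzSelfCent.CaseB

/-!
# The number of irreducible characters
-/

set_option autoImplicit false
set_option linter.style.haveILetI false

noncomputable section

namespace CfsgLib.SuzSelfCent

open Cfsg CfsgLib.Characters CfsgLib.FrobKernelChar CfsgLib.InvChar
open scoped ComplexConjugate

universe u

variable {G : Type u} [Group G] [Fintype G] {T₁ T₂ T₃ : Tor G}

theorem Trio.card_invs_le (h : Trio T₁ T₂ T₃) :
    (T₁.k + T₂.k + T₃.k) * Fintype.card G ≤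
      Nat.card {x : G // orderOf x = 2} * Nat.card {x : G // orderOf x = 2} := by
  classical
  have hJ : Nat.card {x : G // orderOf x = 2} = (invs G).card := by
    rw [Nat.card_eq_fintype_card, Fintype.card_subtype, invs]
  rw [hJ, ← sum_card_invPairs]
  have d : Disjoint (T₁.cls ∪ T₂.cls) T₃.cls :=
    Finset.disjoint_union_left.2 ⟨h.h13.disjoint_cls, h.h23.disjoint_cls⟩
  refine le_trans ?_ (Finset.sum_le_sum_of_subset (Finset.subset_univ (T₁.cls ∪ T₂.cls ∪ T₃.cls)))
  rw [Finset.sum_union d, Finset.sum_union h.h12.disjoint_cls, add_mul, add_mul]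
  exact add_le_add (add_le_add T₁.le_sum_invPairs T₂.le_sum_invPairs) T₃.le_sum_invPairs

theorem Trio.prod_dvd (h : Trio T₁ T₂ T₃) {n : ℕ} (h1 : Nat.card ↥T₁.A ∣ n)
    (h2 : Nat.card ↥T₂.A ∣ n) (h3 : Nat.card ↥T₃.A ∣ n) :
    Nat.card ↥T₁.A * Nat.card ↥T₂.A * Nat.card ↥T₃.A ∣ n :=
  (Nat.Coprime.mul_left h.h13.coprime h.h23.coprime).mul_dvd_of_dvd_of_dvd
    (h.h12.coprime.mul_dvd_of_dvd_of_dvd h1 h2) h3

/-- The numerical data. -/
theorem Trio.card_irr_le (h : Trio T₁ T₂ T₃) (e1 : T₁.e = 2) (e2 : T₂.e = 4) (e3 : T₃.e = 4)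
    (hord : Nat.card G ≤
      3 * (Nat.card ↥T₁.A * Nat.card ↥T₂.A * Nat.card ↥T₃.A) ^ 2) :
    Fintype.card (IrrCharacter G) ≤ T₁.k + T₂.k + T₃.k + 4 := by
  classical
  obtain ⟨ν, hν, hsum⟩ := CfsgLib.Indicator.involution_count (G := G) _ rfl
  have hν' := fun χ => (hν χ).1
  have hνE : ∀ (S : Tor G) (χ : IrrCharacter G), χ ∈ S.F.E → ν χ = 1 := by
    intro S χ hχ
    have := (hν' χ).symm.trans (S.F.fs χ hχ)
    exact_mod_cast this
  have n1 : ((T₁.e * T₁.k + 1 : ℕ) : ℤ) = 2 * (T₁.k : ℤ) + 1 := by rw [e1]; push_cast; ring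
  have n2 : ((T₂.e * T₂.k + 1 : ℕ) : ℤ) = 4 * (T₂.k : ℤ) + 1 := by rw [e2]; push_cast; ring
  have n3 : ((T₃.e * T₃.k + 1 : ℕ) : ℤ) = 4 * (T₃.k : ℤ) + 1 := by rw [e3]; push_cast; ring
  have hn : (2 * (T₁.k : ℤ) + 1) * (4 * (T₂.k : ℤ) + 1) * (4 * (T₃.k : ℤ) + 1) =
      ((Nat.card ↥T₁.A * Nat.card ↥T₂.A * Nat.card ↥T₃.A : ℕ) : ℤ) := by
    rw [← n1, ← n2, ← n3, T₁.hA, T₂.hA, T₃.hA]; push_cast; rfl
  have hco : ∀ {S S' : Tor G}, Apart S S' →
      IsCoprime ((S.e * S.k + 1 : ℕ) : ℤ) ((S'.e * S'.k + 1 : ℕ) : ℤ) := by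
    intro S S' hh
    rw [← S.hA, ← S'.hA]
    exact Nat.Coprime.isCoprime hh.coprime
  have hperm : outside T₂ T₁ T₃ = outside T₁ T₂ T₃ := outside_swap _ _ _
  have hrot : outside T₃ T₁ T₂ = outside T₁ T₂ T₃ := outside_rot _ _ _
  have hc1 : ∀ S : Tor G, (principalIrr G : IrrCharacter G) ∉ S.F.E →
      S.F.c (principalIrr G) = 1 := by
    intro S hS
    have := S.F.val _ hS _ S.a_mem S.a_ne
    simp only [principalIrr] at this
    exact_mod_cast this.symm
  obtain ⟨p1, p2, p3⟩ := mem_outside.1 h.principal_mem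
  have z1 : (T₁.e : ℤ) = 2 := by exact_mod_cast e1
  have z2 : (T₂.e : ℤ) = 4 := by exact_mod_cast e2
  have z3 : (T₃.e : ℤ) = 4 := by exact_mod_cast e3
  let D : Dat (IrrCharacter G) :=
    { U := outside T₁ T₂ T₃
      one := principalIrr G
      c1 := T₁.F.c
      c2 := T₂.F.c
      c3 := T₃.F.c
      deg := fun χ => (charDegree (χ : G → ℂ) : ℤ)
      ν := ν
      k1 := T₁.k
      k2 := T₂.k
      k3 := T₃.k
      d12 := T₁.d T₂
      d13 := T₁.d T₃
      d21 := T₂.d T₁
      d23 := T₂.d T₃
      d31 := T₃.d T₁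
      d32 := T₃.d T₂
      σ1 := T₁.σ
      σ2 := T₂.σ
      σ3 := T₃.σ
      q1 := T₁.q
      q2 := T₂.q
      q3 := T₃.q
      X := T₁.deg
      Y := T₂.deg
      Z := T₃.deg
      g := Nat.card G
      J := Nat.card {x : G // orderOf x = 2}
      num1 := num_mk T₁.num T₁.F.sign
      num2 := num_mk T₂.num T₂.F.sign
      num3 := num_mk T₃.num T₃.F.sign
      cop12 := by rw [← n1, ← n2]; exact hco h.h12
      cop13 := by rw [← n1, ← n3]; exact hco h.h13
      cop23 := by rw [← n2, ← n3]; exact hco h.h23
      one_mem := h.principal_mem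
      c1_one := hc1 _ p1
      c2_one := hc1 _ p2
      c3_one := hc1 _ p3
      deg_one := by rw [CfsgLib.Indicator.charDegree_one']; rfl
      ν_one := by
        have := (hν' (principalIrr G)).symm.trans CfsgLib.Indicator.fsInd_principal
        exact_mod_cast this
      deg_pos := fun χ _ => deg_pos' χ
      X_pos := deg_pos' _
      Y_pos := deg_pos' _
      Z_pos := deg_pos' _
      ν_cases := fun χ _ => by
        rcases (hν χ).2 with ⟨a | a, -⟩ | ⟨a, -⟩ <;> simp [a]
      norm1 := by
        have := h.norm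
        rw [z1] at this
        exact this
      norm2 := by
        have := h.swap.norm
        rw [z2, hperm] at this
        exact this
      norm3 := by
        have := h.rot.norm
        rw [z3, hrot] at this
        exact this
      orth12 := h.orth
      orth13 := by
        have := (⟨h.h13, h.h12, h.h23.symm⟩ : Trio T₁ T₃ T₂).orth
        rw [show outside T₁ T₃ T₂ = outside T₁ T₂ T₃ by ext χ; simp only [mem_outside]; tauto] at this
        linear_combination this
      orth23 := by
        have := h.rot.rot.orth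
        rw [show outside T₂ T₃ T₁ = outside T₁ T₂ T₃ by ext χ; simp only [mem_outside]; tauto] at this
        linear_combination this
      dega1 := h.dega
      dega2 := by
        have := h.swap.dega
        rw [hperm] at this
        linear_combination this
      dega3 := by
        have := h.rot.dega
        rw [hrot] at this
        linear_combination this
      fs1 := h.fs hν'
      fs2 := by
        have := h.swap.fs hν'
        rw [hperm] at this
        linear_combination this
      fs3 := by
        have := h.rot.fs hν'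
        rw [hrot] at this
        linear_combination this
      invol := by
        have hE : ∀ S : Tor G, ∑ χ ∈ S.F.E, ν χ * (charDegree (χ : G → ℂ) : ℤ) = S.k * S.deg :=
          fun S => by
            rw [Finset.sum_congr rfl (fun χ hχ => by rw [hνE S χ hχ, one_mul, S.deg_eq hχ]),
              Finset.sum_const, S.F.card_E, nsmul_eq_mul]
        rw [hsum, h.split, hE, hE, hE]
      order := by
        have hE : ∀ S : Tor G, ∑ χ ∈ S.F.E, (charDegree (χ : G → ℂ) : ℤ) ^ 2 = S.k * S.deg ^ 2 :=
          fun S => by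
            rw [Finset.sum_congr rfl (fun χ hχ => by rw [S.deg_eq hχ]),
              Finset.sum_const, S.F.card_E, nsmul_eq_mul]
        have h0 : (Nat.card G : ℤ) = ∑ χ : IrrCharacter G, (charDegree (χ : G → ℂ) : ℤ) ^ 2 := by
          have := sum_sq_degrees (G := G)
          simp only [← CfsgLib.Chars17.cast_irrDegree] at this
          exact_mod_cast this.symm
        rw [h0, h.split, hE, hE, hE]
      cong1 := fun χ hχ => by
        have := T₁.F.cong_out χ (mem_outside.1 hχ).1
        rwa [z1] at this
      cong2 := fun χ hχ => by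
        have := T₂.F.cong_out χ (mem_outside.1 hχ).2.1
        rwa [z2] at this
      cong3 := fun χ hχ => by
        have := T₃.F.cong_out χ (mem_outside.1 hχ).2.2
        rwa [z3] at this
      congX1 := by
        have := T₁.cong_deg
        rw [n1] at this
        rwa [z1] at this
      congX2 := by have := h.h12.symm.cong_deg; rwa [n2] at this
      congX3 := by have := h.h13.symm.cong_deg; rwa [n3] at this
      congY1 := by have := h.h12.cong_deg; rwa [n1] at this
      congY2 := by
        have := T₂.cong_deg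
        rw [n2] at this
        rwa [z2] at this
      congY3 := by have := h.h23.symm.cong_deg; rwa [n3] at this
      congZ1 := by have := h.h13.cong_deg; rwa [n1] at this
      congZ2 := by have := h.h23.cong_deg; rwa [n2] at this
      congZ3 := by
        have := T₃.cong_deg
        rw [n3] at this
        rwa [z3] at this
      dvd_g := fun χ _ => deg_dvd_card χ
      X_dvd := deg_dvd_card _
      N_dvd := by
        rw [hn]
        exact_mod_cast h.prod_dvd (Subgroup.card_subgroup_dvd_card _)
          (Subgroup.card_subgroup_dvd_card _) (Subgroup.card_subgroup_dvd_card _)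
      N_dvd_J := by
        rw [hn]
        exact_mod_cast h.prod_dvd T₁.card_dvd_involutions T₂.card_dvd_involutions
          T₃.card_dvd_involutions
      g_le := by rw [hn]; exact_mod_cast hord
      J_nonneg := Int.natCast_nonneg _
      J_sq := by
        have := h.card_invs_le
        rw [← Nat.card_eq_fintype_card] at this
        exact_mod_cast this }
  have := D.card_le
  rw [h.card_irr]
  change (outside T₁ T₂ T₃).card ≤ 4 at this
  omega

end CfsgLib.SuzSelfCent

end
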