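import Cfsg.Agent.Lib.SuzSelfCent.Main

/-!
# The cases in which the first family does not vanish on the second subgroup
-/

set_option autoImplicit false

namespace CfsgLib.SuzSelfCent

universe u

variable {ι : Type u} [DecidableEq ι] (D : Dat ι)

namespace Dat

variable {D} {θ : ι} {s : ℤ}

theorem le_of_sq_lt {a b : ℤ} (hb : 0 ≤ b) (h : a ^ 2 < b * b) : a ≤ b := by nlinarith

theorem Base.d21_eq (B : D.Base θ s) (hp : D.d21 ≠ 0) : D.d21 = s ∧ D.k1 ≤ 3 := by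
  have b2 := B.budget2
  have hk := D.num1.two_le
  have hk3 := D.num3.two_le
  have hS : 0 ≤ ∑ χ ∈ D.W.erase θ, D.c2 χ ^ 2 := Finset.sum_nonneg fun _ _ => sq_nonneg _
  have h23 : 0 ≤ D.k3 * D.d23 ^ 2 := mul_nonneg (by omega) (sq_nonneg _)
  have h1 : 1 ≤ D.d21 ^ 2 := by nlinarith [Int.one_le_abs hp, sq_abs D.d21]
  have h3 : (D.d21 - s) ^ 2 + D.k1 * D.d21 ^ 2 ≤ 3 := by linarith [D.num2.q_nonneg]
  have hsq : D.d21 ^ 2 = 1 := by nlinarith [sq_nonneg (D.d21 - s)]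
  have h : D.d21 = 1 ∨ D.d21 = -1 := sq_eq_one_iff.1 hsq
  rcases h with e | e <;> rcases B.sign with e' | e' <;> rw [e, e'] at h3 <;>
    refine ⟨by rw [e, e'] <;> omega, by omega⟩

/-- Not both are nonzero, and then the first subgroup has order five. -/
theorem Base.pair (B : D.Base θ s) (hp : D.d21 ≠ 0) :
    D.d21 = s ∧ D.k1 = 2 ∧ D.d31 = 0 := by
  obtain ⟨e2, hk⟩ := B.d21_eq hp
  have hk1 := D.num1.two_le
  have hk2 := D.num2.two_le
  have hk3 := D.num3.two_le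
  have hs := B.sq
  have b2 := B.budget2
  have b3 := B.budget3
  rw [e2] at b2
  have hS2 : 0 ≤ ∑ χ ∈ D.W.erase θ, D.c2 χ ^ 2 := Finset.sum_nonneg fun _ _ => sq_nonneg _
  have hk2' : D.k1 = 2 := by
    by_contra hne
    have ek : D.k1 = 3 := by omega
    rw [ek] at b2
    have h23 : D.d23 = 0 := by
      by_contra h
      nlinarith [Int.one_le_abs h, sq_abs D.d23, D.num2.q_nonneg]
    rw [h23] at b2
    have hq : D.q2 = 0 := by nlinarith [D.num2.q_nonneg]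
    have hz := sq_sum_zero (s := D.W.erase θ) (f := D.c2) (by nlinarith)
    have hf := B.fs2'
    rw [Finset.sum_eq_zero (s := D.W.erase θ) (fun χ hχ => by rw [hz χ hχ, mul_zero]), e2, ek,
      h23] at hf
    rcases B.sign with e | e <;> rcases D.num2.q_zero hq with e' | e' <;> rw [e, e'] at hf <;> omega
  refine ⟨e2, hk2', ?_⟩
  by_contra hp3
  obtain ⟨e3, -⟩ := B.swap.d21_eq hp3
  change D.d31 = s at e3
  rw [e3] at b3
  rw [hk2'] at b2 b3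
  have hS3 : 0 ≤ ∑ χ ∈ D.W.erase θ, D.c3 χ ^ 2 := Finset.sum_nonneg fun _ _ => sq_nonneg _
  have h23 : D.d23 = 0 := by
    by_contra h
    nlinarith [Int.one_le_abs h, sq_abs D.d23, D.num2.q_nonneg]
  have h32 : D.d32 = 0 := by
    by_contra h
    nlinarith [Int.one_le_abs h, sq_abs D.d32, D.num3.q_nonneg]
  have ho := B.orth
  rw [e2, e3, h23, h32, hk2'] at ho
  have hm := abs_sum_mul_le (D.W.erase θ) D.c2 D.c3
  rw [show ∑ χ ∈ D.W.erase θ, D.c2 χ * D.c3 χ = -3 by linear_combination ho - 2 * hs] at hm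
  norm_num at hm
  nlinarith [D.num2.q_nonneg, D.num3.q_nonneg]

/-- The character seen by the second subgroup. -/
theorem Base.psi (B : D.Base θ s) (hp : D.d21 ≠ 0) :
    D.d21 = s ∧ D.k1 = 2 ∧ D.d31 = 0 ∧ D.d23 = 0 ∧ D.σ2 = -s ∧
    ∃ ψ ∈ D.W.erase θ, D.ν ψ * D.c2 ψ = -s ∧ (D.c2 ψ = 1 ∨ D.c2 ψ = -1) ∧
      (∀ χ ∈ D.W.erase θ, χ ≠ ψ → D.c2 χ = 0) ∧
      1 + D.c2 ψ * D.deg ψ - s * D.Y + 2 * s * D.X = 0 ∧
      1 + D.c2 ψ * D.c3 ψ - s * D.d32 = 0 := by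
  obtain ⟨e2, ek, e3⟩ := B.pair hp
  have hk2 := D.num2.two_le
  have hk3 := D.num3.two_le
  have b2 := B.budget2
  rw [e2, ek] at b2
  have hs := B.sq
  have hS2 : 0 ≤ ∑ χ ∈ D.W.erase θ, D.c2 χ ^ 2 := Finset.sum_nonneg fun _ _ => sq_nonneg _
  have h23 : D.d23 = 0 := by
    by_contra h
    nlinarith [Int.one_le_abs h, sq_abs D.d23, D.num2.q_nonneg]
  rw [h23] at b2
  have ho := B.orth
  rw [e2, e3, h23] at ho
  have hf := B.fs2'
  rw [e2, ek, h23] at hf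
  have hq : D.q2 = 0 := by
    by_contra hq
    have h0 : 0 ≤ D.q2 := D.num2.q_nonneg
    have hle : ∑ χ ∈ D.W.erase θ, D.c2 χ ^ 2 + D.q2 = 1 := by linear_combination b2 - 2 * hs
    have hz := sq_sum_zero (s := D.W.erase θ) (f := D.c2) (by omega)
    rw [Finset.sum_eq_zero (s := D.W.erase θ) (fun χ hχ => by rw [hz χ hχ, zero_mul])] at ho
    rw [Finset.sum_eq_zero (s := D.W.erase θ) (fun χ hχ => by rw [hz χ hχ, mul_zero])] at hf
    rw [show D.σ2 = -2 * s by linear_combination hf] at ho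
    rcases B.sign with e | e <;> rw [e] at ho <;> omega
  rw [hq] at b2
  have hsum : ∑ χ ∈ D.W.erase θ, D.c2 χ ^ 2 = 1 := by linear_combination b2 - 2 * hs
  obtain ⟨ψ, hψ, hv, hr⟩ := sq_sum_pick hsum (by norm_num) (by norm_num)
  have hz : ∀ χ ∈ D.W.erase θ, χ ≠ ψ → D.c2 χ = 0 := fun χ hχ h =>
    sq_sum_zero (by simpa using hr) χ (Finset.mem_erase.2 ⟨h, hχ⟩)
  have hone : ∀ f : ι → ℤ, ∑ χ ∈ D.W.erase θ, D.c2 χ * f χ = D.c2 ψ * f ψ := fun f =>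
    Finset.sum_eq_single_of_mem ψ hψ (fun χ hχ h => by rw [hz χ hχ h, zero_mul])
  rw [Finset.sum_congr rfl (fun χ _ => mul_comm (D.ν χ) (D.c2 χ)), hone] at hf
  rw [hone] at ho
  have hg := B.dega2'
  rw [hone, e2, ek, h23] at hg
  have key : D.σ2 = -s ∧ D.ν ψ * D.c2 ψ = -s := by
    rcases B.sign with e | e <;> rcases D.num2.q_zero hq with e' | e' <;> rcases hv with e'' | e'' <;>
      rcases D.ν_cases ψ (D.mem_U (Finset.mem_of_mem_erase hψ)) with n | n | n <;>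
        rw [e, e', e'', n] at hf <;> rw [e, e', e'', n] <;> omega
  rw [key.1] at ho hg
  exact ⟨e2, ek, e3, h23, key.1, ψ, hψ, key.2, hv, hz, by linear_combination hg,
    by linear_combination ho⟩

/-- The case `d₃₂ = 0`. -/
theorem Base.caseA (B : D.Base θ s) (hp : D.d21 ≠ 0) (h32 : D.d32 = 0) : D.U.card ≤ 4 := by
  obtain ⟨e2, ek, e3, h23, hσ2, ψ, hψ, hνu, hu, hz2, hY, hcψ⟩ := B.psi hp
  rw [h32] at hcψ
  have hs := B.sq
  have hψW := Finset.mem_of_mem_erase hψ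
  have c3ψ : D.c3 ψ = -D.c2 ψ := by
    rcases hu with e | e <;> rw [e] at hcψ ⊢ <;> linarith
  have b3 := B.budget3
  rw [e3, h32, ← Finset.add_sum_erase _ _ hψ, c3ψ] at b3
  have hu2 : D.c2 ψ * D.c2 ψ = 1 := sign_sq hu
  have hS : 0 ≤ ∑ χ ∈ (D.W.erase θ).erase ψ, D.c3 χ ^ 2 :=
    Finset.sum_nonneg fun _ _ => sq_nonneg _
  have hf := B.fs3'
  rw [e3, h32, ← Finset.add_sum_erase _ _ hψ, c3ψ] at hf
  have hq : D.q3 = 0 := by
    by_contra hq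
    have h0 := D.num3.q_nonneg
    have hle : ∑ χ ∈ (D.W.erase θ).erase ψ, D.c3 χ ^ 2 + D.q3 = 1 := by
      linear_combination b3 - hs - hu2
    have hz := sq_sum_zero (s := (D.W.erase θ).erase ψ) (f := D.c3) (by omega)
    rw [Finset.sum_eq_zero (s := (D.W.erase θ).erase ψ) (fun χ hχ => by rw [hz χ hχ, mul_zero])]
      at hf
    exact D.num3.σ_ne (by linear_combination hf + hνu)
  rw [hq] at b3
  have hsum : ∑ χ ∈ (D.W.erase θ).erase ψ, D.c3 χ ^ 2 = 1 := by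
    linear_combination b3 - hs - hu2
  obtain ⟨φ, hφ, hv, hr⟩ := sq_sum_pick hsum (by norm_num) (by norm_num)
  have hφψ : φ ≠ ψ := Finset.ne_of_mem_erase hφ
  have hφ' := Finset.mem_of_mem_erase hφ
  have hφθ : φ ≠ θ := Finset.ne_of_mem_erase hφ'
  have hφW := Finset.mem_of_mem_erase hφ'
  have hz3 : ∀ χ ∈ (D.W.erase θ).erase ψ, χ ≠ φ → D.c3 χ = 0 := fun χ hχ h =>
    sq_sum_zero (by simpa using hr) χ (Finset.mem_erase.2 ⟨h, hχ⟩)
  have hone : ∀ f : ι → ℤ, ∑ χ ∈ (D.W.erase θ).erase ψ, D.c3 χ * f χ = D.c3 φ * f φ := fun f =>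
    Finset.sum_eq_single_of_mem φ hφ (fun χ hχ h => by rw [hz3 χ hχ h, zero_mul])
  rw [Finset.sum_congr rfl (fun χ _ => mul_comm (D.ν χ) (D.c3 χ)), hone] at hf
  have hZ := B.dega3'
  rw [e3, h32, ← Finset.add_sum_erase _ _ hψ, c3ψ, hone] at hZ
  obtain ⟨t, ht, hσ3⟩ : ∃ t : ℤ, (t = 1 ∨ t = -1) ∧ D.σ3 = -t := by
    rcases D.num3.q_zero hq with e | e
    · exact ⟨-1, Or.inr rfl, by omega⟩
    · exact ⟨1, Or.inl rfl, by omega⟩
  rw [hσ3] at hf hZ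
  have hνv : D.c3 φ * D.ν φ = t := by linear_combination hf + hνu
  set pt := s * D.c2 ψ * D.deg ψ with hptdef
  have hpt : pt = D.Y - 2 * D.X - s := by
    rw [hptdef]; linear_combination s * hY + (D.Y - 2 * D.X) * hs
  have hψν : D.ν ψ * D.deg ψ = -pt := by
    rw [hptdef]; linear_combination (D.c2 ψ * D.deg ψ) * hνu - (D.ν ψ * D.deg ψ) * hu2
  have hθ : D.deg θ = D.X - s := by linarith [B.X_eq]
  have hm := D.deg_pos θ (D.mem_U B.mem)
  have hv2 : D.c3 φ * D.c3 φ = 1 := sign_sq hv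
  have ht2 := sign_sq ht
  have hvd : D.c3 φ * D.deg φ = t * D.Z - (1 - s * D.deg θ - s * pt) := by
    rw [hptdef]; linear_combination hZ - (D.c2 ψ * D.deg ψ) * hs
  have hφν : D.ν φ * D.deg φ = D.Z - t * (1 - s * D.deg θ - s * pt) := by
    linear_combination t * hvd + (D.c3 φ * D.deg φ) * hνv + D.Z * ht2 -
      (D.ν φ * D.deg φ) * hv2
  -- the remaining characters
  have hT : ({θ, ψ, φ} : Finset ι) ⊆ D.W := by
    simp [Finset.insert_subset_iff, B.mem, hψW, hφW]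
  have hR : ∀ χ ∈ D.W, χ ∉ ({θ, ψ, φ} : Finset ι) → D.c1 χ = 0 ∧ D.c2 χ = 0 ∧ D.c3 χ = 0 := by
    intro χ hχ hχT
    simp only [Finset.mem_insert, Finset.mem_singleton, not_or] at hχT
    obtain ⟨a1, a2, a3⟩ := hχT
    have hχ' : χ ∈ D.W.erase θ := Finset.mem_erase.2 ⟨a1, hχ⟩
    exact ⟨B.c1z χ hχ a1, hz2 χ hχ' a2, hz3 χ (Finset.mem_erase.2 ⟨a2, hχ'⟩) a3⟩
  have n1 : θ ≠ ψ := (Finset.ne_of_mem_erase hψ).symm
  rcases D.rest _ hT Finset.card_le_three hR with h | ⟨r, hr', hdvd, hJ, hg, hK⟩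
  · have := Finset.card_le_three (a := θ) (b := ψ) (c := φ)
    omega
  exfalso
  simp only [sum_three _ n1 hφθ.symm hφψ.symm, B.νθ, one_mul, hψν, hφν] at hJ hdvd hg
  set Φ := D.Z - t * (1 - s * D.deg θ - s * pt) with hΦdef
  have hψd : D.deg ψ ^ 2 = pt * pt := by
    rw [hptdef]
    linear_combination (-(D.c2 ψ * D.c2 ψ * D.deg ψ ^ 2)) * hs - D.deg ψ ^ 2 * hu2
  have hνφ : D.ν φ * D.ν φ = 1 := by
    linear_combination (t + D.c3 φ * D.ν φ) * hνv + ht2 - (D.ν φ * D.ν φ) * hv2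
  have hφd : D.deg φ ^ 2 = Φ * Φ := by
    linear_combination (D.ν φ * D.deg φ + Φ) * hφν - D.deg φ ^ 2 * hνφ
  rw [hψd, hφd, ek] at hg
  -- the indices
  have hk2 := D.num2.two_le
  have hk3 := D.num3.two_le
  obtain ⟨b, hb⟩ := Int.eq_ofNat_of_zero_le (by omega : 0 ≤ D.k2)
  obtain ⟨c, hc⟩ := Int.eq_ofNat_of_zero_le (by omega : 0 ≤ D.k3)
  have hN : D.N = 5 * (4 * D.k2 + 1) * (4 * D.k3 + 1) := by rw [Dat.N, ek]; norm_num
  have h5 : 2 * D.k1 + 1 = 5 := by rw [ek]; norm_num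
  have c12 : IsCoprime (5 : ℤ) (4 * D.k2 + 1) := h5 ▸ D.cop12
  have c13 : IsCoprime (5 : ℤ) (4 * D.k3 + 1) := h5 ▸ D.cop13
  have hcop : Nat.Coprime (2 * 2 + 1) (4 * b + 1) ∧ Nat.Coprime (2 * 2 + 1) (4 * c + 1) ∧
      Nat.Coprime (4 * b + 1) (4 * c + 1) := by
    simp only [← Nat.isCoprime_iff_coprime]
    push_cast
    rw [← hb, ← hc]
    exact ⟨by norm_num; exact c12, by norm_num; exact c13, D.cop23⟩
  obtain ⟨-, hA, -⟩ := chk_at le_rfl (by omega : 2 ≤ b) (by omega : 2 ≤ c) (by omega)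
    hcop.1 hcop.2.1 hcop.2.2
  have cX2 : 4 * D.k2 + 1 ∣ D.X - s := by simpa [e2] using D.congX2
  have cX5 : (5 : ℤ) ∣ D.X - 2 * s := by
    have h := D.congX1
    rw [h5, B.σ1] at h
    rwa [mul_neg, ← sub_eq_add_neg] at h
  obtain ⟨x, hx⟩ : 4 * D.k3 + 1 ∣ D.X := by simpa [e3] using D.congX3
  obtain ⟨y, hy⟩ : 5 * (4 * D.k3 + 1) ∣ D.Y := by
    refine c13.mul_dvd ?_ ?_
    · simpa [B.d12, h5] using D.congY1
    · simpa [h32] using D.congY3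
  have hY2 : 4 * D.k2 + 1 ∣ D.Y - 4 * s := by
    have h := D.congY2
    rw [hσ2] at h
    rwa [mul_neg, ← sub_eq_add_neg] at h
  obtain ⟨z, hz⟩ : 5 * (4 * D.k2 + 1) ∣ D.Z := by
    refine c12.mul_dvd ?_ ?_
    · simpa [B.d13, h5] using D.congZ1
    · simpa [h23] using D.congZ2
  have hZ3 : 4 * D.k3 + 1 ∣ D.Z - 4 * t := by
    have h := D.congZ3
    rw [hσ3] at h
    rwa [mul_neg, ← sub_eq_add_neg] at h
  have hψU := D.mem_U hψW
  have hψ0 := D.deg_pos ψ hψU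
  have hpt5 : (5 : ℤ) ∣ pt := by
    have h := D.cong1 ψ hψU
    rw [h5, B.c1z ψ hψW n1.symm, sub_zero] at h
    rw [hptdef]; exact dvd_mul_of_dvd_right h _
  have hpt0 : pt ≠ 0 := by
    intro h0
    rw [h0] at hψd
    nlinarith
  have hφU := D.mem_U hφW
  have hφ0 := D.deg_pos φ hφU
  have hΦ0 : Φ ≠ 0 := by
    intro h0
    rw [h0] at hφd
    nlinarith
  have hΦd : 5 * (4 * D.k2 + 1) ∣ Φ := by
    rw [← hφν]
    refine dvd_mul_of_dvd_right (c12.mul_dvd ?_ ?_) _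
    · simpa [h5, B.c1z φ hφW hφθ] using D.cong1 φ hφU
    · simpa [hz2 φ hφ' hφψ] using D.cong2 φ hφU
  have hpg : pt ∣ D.g := by
    rw [hptdef, show s * D.c2 ψ * D.deg ψ = (s * D.c2 ψ) * D.deg ψ from rfl]
    exact (IsUnit.of_mul_eq_one (s * D.c2 ψ)
      (by linear_combination (D.c2 ψ * D.c2 ψ) * hs + hu2)).mul_left_dvd.2 (D.dvd_g ψ hψU)
  -- sizes
  have hg3 := D.g_le'
  have hNpos := D.N_pos
  set N := D.N with hNdef
  have hNN : 0 ≤ N * N := mul_self_nonneg N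
  have hsq : D.deg θ ^ 2 + (pt * pt + Φ * Φ) + (2 * D.X ^ 2 + D.k2 * D.Y ^ 2 + D.k3 * D.Z ^ 2) <
      2 * (N * N) := by
    rcases hr' with e | e <;> rw [e] at hg <;> linarith
  have p0 : 0 ≤ D.deg θ ^ 2 + (pt * pt + Φ * Φ) :=
    add_nonneg (sq_nonneg _) (add_nonneg (mul_self_nonneg _) (mul_self_nonneg _))
  have pX : 0 ≤ D.X ^ 2 := sq_nonneg _
  have pY : 2 * D.Y ^ 2 ≤ D.k2 * D.Y ^ 2 := mul_le_mul_of_nonneg_right hk2 (sq_nonneg _)
  have pZ : 2 * D.Z ^ 2 ≤ D.k3 * D.Z ^ 2 := mul_le_mul_of_nonneg_right hk3 (sq_nonneg _)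
  have pY0 : 0 ≤ D.Y ^ 2 := sq_nonneg _
  have pZ0 : 0 ≤ D.Z ^ 2 := sq_nonneg _
  have hXN : D.X ≤ N := le_of_sq_lt hNpos.le (by linarith)
  have hYN : D.Y ≤ N := le_of_sq_lt hNpos.le (by linarith)
  have hZN : D.Z ≤ N := le_of_sq_lt hNpos.le (by linarith)
  have p3 : 0 < 4 * D.k3 + 1 := by omega
  have p53 : 0 < 5 * (4 * D.k3 + 1) := by omega
  have p52 : 0 < 5 * (4 * D.k2 + 1) := by omega
  have hx1 : 1 ≤ x := pos_of_mul_pos_right (hx ▸ D.X_pos) p3.le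
  have hy1 : 1 ≤ y := pos_of_mul_pos_right (hy ▸ D.Y_pos) p53.le
  have hz1 : 1 ≤ z := pos_of_mul_pos_right (hz ▸ D.Z_pos) p52.le
  have hx' : x ≤ 5 * (4 * D.k2 + 1) := by
    refine le_of_mul_le_mul_left ?_ p3
    rw [← hx]; exact hXN.trans_eq (by rw [hN]; ring)
  have hy' : y ≤ 4 * D.k2 + 1 := by
    refine le_of_mul_le_mul_left ?_ p53
    rw [← hy]; exact hYN.trans_eq (by rw [hN]; ring)
  have hz' : z ≤ 4 * D.k3 + 1 := by
    refine le_of_mul_le_mul_left ?_ p52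
    rw [← hz]; exact hZN.trans_eq hN
  have hJsq := D.J_sq
  rw [ek, hb, hc] at hJsq
  have hgpos : 0 < D.g := by
    rcases hr' with e | e <;> rw [e] at hg <;> linarith
  rw [ek] at hJ hdvd
  refine false_of_caseAAt (hA rfl) B.sign ht hx1 (by omega) hy1 (by omega) hz1 (by omega)
    (g := D.g) (J := D.J) (N := N) (X := D.X) (θ := D.deg θ) (Y := D.Y) (pt := pt) (Z := D.Z)
    (Φ := Φ) ?_ ?_ hθ ?_ cX5 ?_ hpt hpt0 hpt5 ?_ ?_ ?_ rfl hΦ0 ?_ rfl ?_ rfl hgpos D.N_dvd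
    (D.dvd_g θ (D.mem_U B.mem)) D.X_dvd hpg hg3 D.J_nonneg hJsq ?_
  all_goals simp only [← hb, ← hc, ← hx, ← hy, ← hz]
  · exact hN
  · exact cX2
  · exact hY2
  · exact hZ3
  · exact hΦd
  · rwa [show D.deg θ + 2 * D.X + D.k2 * D.Y + D.k3 * D.Z + Φ - pt =
      D.deg θ + (-pt + Φ) + (2 * D.X + D.k2 * D.Y + D.k3 * D.Z) by ring]
  · rcases hr' with e | e <;> rw [e] at hJ hg
    · exact Or.inl ⟨by linarith, by linarith⟩
    · exact Or.inr ⟨by linarith, by linarith⟩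

end Dat

end CfsgLib.SuzSelfCent
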