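import Cfsg.Agent.Lib.SuzSelfCent.Build

/-!
# At most four classes of elements outside the three subgroups
-/

set_option autoImplicit false
set_option linter.style.haveILetI false

noncomputable section

namespace CfsgLib.SuzSelfCent

open Cfsg CfsgLib.Characters CfsgLib.FrobKernelChar CfsgLib.InvChar

universe u

variable {G : Type u} [Group G] [Fintype G]

namespace Tor

variable (T : Tor G)

theorem cls_conj {u v : G} (hu : u ∈ T.cls) (h : IsConj u v) : v ∈ T.cls := by
  obtain ⟨hu1, g, hg⟩ := T.mem_cls.1 hu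
  obtain ⟨x, hx⟩ := isConj_iff.1 h
  refine T.mem_cls.2 ⟨fun e => hu1 (conj_eq_one_iff.1 (hx.trans e)), x * g, ?_⟩
  rw [← hx]
  convert hg using 1
  group

theorem notMem_cls_of_even {x : G} (h : 2 ∣ orderOf x) : x ∉ T.cls := by
  intro hx
  obtain ⟨-, g, hg⟩ := T.mem_cls.1 hx
  have h1 : orderOf (g⁻¹ * x * g) = orderOf x := by
    simpa using orderOf_injective (MulAut.conj g⁻¹).toMonoidHom (MulAut.conj g⁻¹).injective x
  have h2 : orderOf (⟨_, hg⟩ : ↥T.A) ∣ Nat.card ↥T.A := orderOf_dvd_natCard _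
  rw [Subgroup.orderOf_mk, h1] at h2
  exact Nat.not_even_iff_odd.2 T.odd (even_iff_two_dvd.2 (h.trans h2))

theorem one_notMem_cls : (1 : G) ∉ T.cls := fun h => (T.mem_cls.1 h).1 rfl

theorem notMem_cls_of_commute {x t : G} (ht : orderOf t = 2) (hc : Commute x t) : x ∉ T.cls := by
  intro hx
  obtain ⟨hx1, g, hg⟩ := T.mem_cls.1 hx
  have ha1 : g⁻¹ * x * g ≠ 1 := fun e => hx1 (by
    have : x = g * (g⁻¹ * x * g) * g⁻¹ := by group
    rw [this, e]; simp)
  have hm : g⁻¹ * t * g ∈ T.A := T.hsc.mem_of_commute hg ha1 (by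
    calc g⁻¹ * t * g * (g⁻¹ * x * g) = g⁻¹ * (t * x) * g := by group
      _ = g⁻¹ * (x * t) * g := by rw [hc.eq]
      _ = _ := by group)
  refine T.notMem_cls_of_even (x := t) (by rw [ht]) (T.mem_cls.2 ⟨fun e => ?_, g, hm⟩)
  rw [e, orderOf_one] at ht
  omega

open scoped Classical in
theorem le_card_image_cls : T.k ≤ (T.cls.image ConjClasses.mk).card := by
  have hfib : ∀ c ∈ T.cls.image ConjClasses.mk,
      (T.cls.filter fun u => ConjClasses.mk u = c).card * Nat.card ↥T.A ≤ Nat.card G := by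
    intro c hc
    obtain ⟨u, hu, rfl⟩ := Finset.mem_image.1 hc
    obtain ⟨hu1, g, hg⟩ := T.mem_cls.1 hu
    have ha1 : g⁻¹ * u * g ≠ 1 := fun e => hu1 (by
      have : u = g * (g⁻¹ * u * g) * g⁻¹ := by group
      rw [this, e]; simp)
    have hle : (T.cls.filter fun v => ConjClasses.mk v = ConjClasses.mk u).card ≤
        Nat.card {y : G // IsConj (g⁻¹ * u * g) y} := by
      rw [Nat.card_eq_fintype_card, Fintype.card_subtype]
      refine Finset.card_le_card fun v hv => ?_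
      refine Finset.mem_filter.2 ⟨Finset.mem_univ _, ?_⟩
      exact (isConj_iff.2 ⟨g, by group⟩ : IsConj (g⁻¹ * u * g) u).trans
        (ConjClasses.mk_eq_mk_iff_isConj.1 (Finset.mem_filter.1 hv).2).symm
    have hC : Nat.card {y : G // IsConj (g⁻¹ * u * g) y} * Nat.card ↥T.A = Nat.card G := by
      conv_lhs => arg 2; rw [← T.hsc _ hg ha1]
      rw [card_isConj_eq_index, mul_comm, Subgroup.card_mul_index]
    calc _ ≤ Nat.card {y : G // IsConj (g⁻¹ * u * g) y} * Nat.card ↥T.A :=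
          Nat.mul_le_mul_right _ hle
      _ = Nat.card G := hC
  have h1 : Nat.card ↥T.A * T.cls.card ≤ (T.cls.image ConjClasses.mk).card * Nat.card G := by
    rw [Finset.card_eq_sum_card_image ConjClasses.mk T.cls, Finset.mul_sum]
    refine (Finset.sum_le_sum fun c hc => (mul_comm _ _).trans_le (hfib c hc)).trans ?_
    rw [Finset.sum_const, smul_eq_mul]
  have h2 := T.card_cls
  rw [← Nat.card_eq_fintype_card] at h2
  refine Nat.le_of_mul_le_mul_right ?_ (Nat.card_pos (α := G))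
  calc T.k * Nat.card G = Nat.card G * T.k := mul_comm _ _
    _ ≤ _ := h2.trans h1

end Tor

variable {T₁ T₂ T₃ : Tor G}

/-- No five elements outside the three subgroups have five different orders. -/
theorem Trio.no_five (h : Trio T₁ T₂ T₃) (e1 : T₁.e = 2) (e2 : T₂.e = 4) (e3 : T₃.e = 4)
    (hord : Nat.card G ≤
      3 * (Nat.card ↥T₁.A * Nat.card ↥T₂.A * Nat.card ↥T₃.A) ^ 2)
    (f : Fin 5 → G) (hinj : Function.Injective fun i => orderOf (f i))
    (hout : ∀ i, f i ∉ T₁.cls ∧ f i ∉ T₂.cls ∧ f i ∉ T₃.cls) : False := by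
  classical
  let I : Tor G → Finset (ConjClasses G) := fun T => T.cls.image ConjClasses.mk
  let O : Finset (ConjClasses G) := Finset.univ.image fun i => ConjClasses.mk (f i)
  have hO : O.card = 5 := by
    refine (Finset.card_image_of_injective _ fun i j hij => hinj ?_).trans (by simp)
    obtain ⟨x, hx⟩ := isConj_iff.1 (ConjClasses.mk_eq_mk_iff_isConj.1 hij)
    show orderOf (f i) = orderOf (f j)
    rw [← hx]
    exact (orderOf_injective (MulAut.conj x).toMonoidHom (MulAut.conj x).injective (f i)).symm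
  have hdis : ∀ {S S' : Tor G}, Apart S S' → Disjoint (I S) (I S') := by
    intro S S' hh
    rw [Finset.disjoint_left]
    intro c hc hc'
    obtain ⟨u, hu, rfl⟩ := Finset.mem_image.1 hc
    obtain ⟨v, hv, hvu⟩ := Finset.mem_image.1 hc'
    exact Finset.disjoint_left.1 hh.disjoint_cls hu
      (S'.cls_conj hv (ConjClasses.mk_eq_mk_iff_isConj.1 hvu))
  have hdisO : Disjoint (I T₁ ∪ I T₂ ∪ I T₃) O := by
    rw [Finset.disjoint_left]
    intro c hc hc'
    obtain ⟨i, -, rfl⟩ := Finset.mem_image.1 hc'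
    simp only [Finset.mem_union] at hc
    rcases hc with (hc | hc) | hc <;> obtain ⟨u, hu, huf⟩ := Finset.mem_image.1 hc
    · exact (hout i).1 (T₁.cls_conj hu (ConjClasses.mk_eq_mk_iff_isConj.1 huf))
    · exact (hout i).2.1 (T₂.cls_conj hu (ConjClasses.mk_eq_mk_iff_isConj.1 huf))
    · exact (hout i).2.2 (T₃.cls_conj hu (ConjClasses.mk_eq_mk_iff_isConj.1 huf))
  have hcard := Finset.card_le_univ (I T₁ ∪ I T₂ ∪ I T₃ ∪ O)
  rw [Finset.card_union_of_disjoint hdisO, Finset.card_union_of_disjoint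
    (Finset.disjoint_union_left.2 ⟨hdis h.h13, hdis h.h23⟩),
    Finset.card_union_of_disjoint (hdis h.h12), hO] at hcard
  have hle := h.card_irr_le e1 e2 e3 hord
  have hcl : Fintype.card (ConjClasses G) = Fintype.card (IrrCharacter G) := by
    rw [← Nat.card_eq_fintype_card, ← Nat.card_eq_fintype_card, card_irr_eq_card_conjClasses]
  have := T₁.le_card_image_cls
  have := T₂.le_card_image_cls
  have := T₃.le_card_image_cls
  simp only [I] at hcard
  omega

/-- The centralizer of every involution is a `2`-group. -/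
theorem Trio.cit (h : Trio T₁ T₂ T₃) (e1 : T₁.e = 2) (e2 : T₂.e = 4) (e3 : T₃.e = 4)
    (hord : Nat.card G ≤
      3 * (Nat.card ↥T₁.A * Nat.card ↥T₂.A * Nat.card ↥T₃.A) ^ 2)
    (t : G) (ht : orderOf t = 2) : IsPGroup 2 ↥(Subgroup.centralizer ({t} : Set G)) := by
  haveI : Fact (Nat.Prime 2) := ⟨Nat.prime_two⟩
  rw [IsPGroup.iff_card]
  refine ⟨_, Nat.eq_prime_pow_of_unique_prime_dvd Nat.card_pos.ne' ?_⟩
  intro p hp hpd
  by_contra hp2
  haveI : Fact p.Prime := ⟨hp⟩
  obtain ⟨y, hy⟩ := exists_prime_orderOf_dvd_card' p hpd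
  have hy' : orderOf (y : G) = p := by rw [Subgroup.orderOf_coe, hy]
  have hc : Commute (y : G) t := Subgroup.mem_centralizer_singleton_iff.1 y.2
  obtain ⟨g, hg, -⟩ := T₂.hsc.exists_order_four (by rw [T₂.hrel, e2]) T₂.ne_bot
  have hty : orderOf (t * (y : G)) = 2 * p := by
    rw [hc.symm.orderOf_mul_eq_mul_orderOf_of_coprime (by
      rw [ht, hy']; exact (Nat.coprime_primes Nat.prime_two hp).2 (Ne.symm hp2)), ht, hy']
  have hp3 : 3 ≤ p := lt_of_le_of_ne hp.two_le (Ne.symm hp2)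
  have hpo : p % 2 = 1 := hp.eq_two_or_odd.resolve_left hp2
  refine h.no_five e1 e2 e3 hord ![1, t, g, (y : G), t * (y : G)] ?_ ?_
  · intro i j hij
    fin_cases i <;> fin_cases j <;> simp [ht, hg, hy', hty] at hij ⊢ <;> omega
  · intro i
    have he : ∀ x : G, 2 ∣ orderOf x → x ∉ T₁.cls ∧ x ∉ T₂.cls ∧ x ∉ T₃.cls := fun x hx =>
      ⟨T₁.notMem_cls_of_even hx, T₂.notMem_cls_of_even hx, T₃.notMem_cls_of_even hx⟩
    fin_cases i
    · exact ⟨T₁.one_notMem_cls, T₂.one_notMem_cls, T₃.one_notMem_cls⟩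
    · exact he t (by rw [ht])
    · exact he g (by rw [hg]; norm_num)
    · exact ⟨T₁.notMem_cls_of_commute ht hc, T₂.notMem_cls_of_commute ht hc,
        T₃.notMem_cls_of_commute ht hc⟩
    · exact he (t * (y : G)) (by rw [hty]; exact dvd_mul_right _ _)

/-- No element has order divisible by sixteen. -/
theorem Trio.no_sixteen (h : Trio T₁ T₂ T₃) (e1 : T₁.e = 2) (e2 : T₂.e = 4) (e3 : T₃.e = 4)
    (hord : Nat.card G ≤
      3 * (Nat.card ↥T₁.A * Nat.card ↥T₂.A * Nat.card ↥T₃.A) ^ 2)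
    (x : G) : ¬ 16 ∣ orderOf x := by
  intro h16
  have hy : orderOf (x ^ (orderOf x / 16)) = 16 := orderOf_pow_orderOf_div (orderOf_pos x).ne' h16
  set y := x ^ (orderOf x / 16)
  have e : ∀ d : ℕ, d ∣ 16 → orderOf (y ^ d) = 16 / d := by
    intro d hd
    rw [orderOf_pow, hy, Nat.gcd_eq_right hd]
  have o8 := e 8 (by norm_num)
  have o4 := e 4 (by norm_num)
  have o2 := e 2 (by norm_num)
  norm_num at o8 o4 o2
  refine h.no_five e1 e2 e3 hord ![1, y ^ 8, y ^ 4, y ^ 2, y] ?_ ?_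
  · intro i j hij
    fin_cases i <;> fin_cases j <;> simp [o8, o4, o2, hy] at hij ⊢
  · intro i
    have he : ∀ z : G, 2 ∣ orderOf z → z ∉ T₁.cls ∧ z ∉ T₂.cls ∧ z ∉ T₃.cls := fun z hz =>
      ⟨T₁.notMem_cls_of_even hz, T₂.notMem_cls_of_even hz, T₃.notMem_cls_of_even hz⟩
    fin_cases i
    · exact ⟨T₁.one_notMem_cls, T₂.one_notMem_cls, T₃.one_notMem_cls⟩
    · exact he (y ^ 8) (by rw [o8])
    · exact he (y ^ 4) (by rw [o4]; norm_num)
    · exact he (y ^ 2) (by rw [o2]; norm_num)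
    · exact he y (by rw [hy]; norm_num)

end CfsgLib.SuzSelfCent

end
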