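import Cfsg.Agent.Lib.SuzSelfCent.Tori

/-!
# The relations between the columns
-/

set_option autoImplicit false
set_option linter.style.haveILetI false

noncomputable section

namespace CfsgLib.SuzSelfCent

open Cfsg CfsgLib.Characters CfsgLib.FrobKernelChar CfsgLib.InvChar
open scoped ComplexConjugate

universe u

variable {G : Type u} [Group G] [Fintype G]

theorem sum_fsInd_mul_irr (g : G) :
    ∑ χ : IrrCharacter G, CfsgLib.FrobSchur.fsInd (χ : G → ℂ) * (χ : G → ℂ) g =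
      (Nat.card {s : G // s * s = g} : ℂ) := by
  classical
  have hG : (Nat.card G : ℂ) ≠ 0 := Nat.cast_ne_zero.mpr Nat.card_pos.ne'
  have hc : ∀ χ : IrrCharacter G, CfsgLib.FrobSchur.fsInd (χ : G → ℂ) * (χ : G → ℂ) g =
      CfsgLib.FrobSchur.fsInd (χ : G → ℂ) * conj ((χ : G → ℂ) g) := by
    intro χ
    rcases CfsgLib.FrobSchur.fsInd_cases χ.2 with ⟨hr, -⟩ | ⟨-, h0⟩
    · rw [Complex.conj_eq_iff_im.2 (hr g)]
    · rw [h0, zero_mul, zero_mul]
  rw [Finset.sum_congr rfl (fun χ _ => by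
    rw [hc χ, CfsgLib.FrobSchur.fsInd_eq_sum, mul_assoc, Finset.sum_mul]), ← Finset.mul_sum,
    Finset.sum_comm]
  simp only [column_orth]
  rw [← Finset.sum_filter]
  -- the square roots of the conjugates of `g`
  have hcount : (Finset.univ.filter fun s : G => IsConj (s * s) g).card *
      Nat.card ↥(Subgroup.centralizer ({g} : Set G)) =
        Nat.card {s : G // s * s = g} * Nat.card G := by
    let S : Finset G := Finset.univ.filter fun s : G => IsConj (s * s) g
    let C : Finset G := Finset.univ.filter fun y : G => IsConj g y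
    have hS : S.card = C.card * Nat.card {s : G // s * s = g} := by
      rw [Finset.card_eq_sum_card_fiberwise (f := fun s : G => s * s) (t := C)
        (fun s hs => Finset.mem_filter.2 ⟨Finset.mem_univ _, (Finset.mem_filter.1 hs).2.symm⟩)]
      refine Finset.sum_const_nat fun y hy => ?_
      obtain ⟨x, hx⟩ := isConj_iff.1 (Finset.mem_filter.1 hy).2
      rw [Nat.card_eq_fintype_card, Fintype.card_subtype]
      refine Finset.card_nbij' (fun s => x⁻¹ * s * x) (fun s => x * s * x⁻¹) ?_ ?_ ?_ ?_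
      · intro s hs
        simp only [S, Finset.mem_coe, Finset.mem_filter, Finset.mem_univ, true_and] at hs ⊢
        calc x⁻¹ * s * x * (x⁻¹ * s * x) = x⁻¹ * (s * s) * x := by group
          _ = g := by rw [hs.2, ← hx]; group
      · intro s hs
        simp only [S, Finset.mem_coe, Finset.mem_filter, Finset.mem_univ, true_and] at hs ⊢
        have e : x * s * x⁻¹ * (x * s * x⁻¹) = y := by
          calc x * s * x⁻¹ * (x * s * x⁻¹) = x * (s * s) * x⁻¹ := by group
            _ = y := by rw [hs, hx]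
        exact ⟨by rw [e]; exact (Finset.mem_filter.1 hy).2.symm, e⟩
      · intro s _; simp [mul_assoc]
      · intro s _; simp [mul_assoc]
    have hC : C.card * Nat.card ↥(Subgroup.centralizer ({g} : Set G)) = Nat.card G := by
      rw [show C.card = Nat.card {y : G // IsConj g y} by
        rw [Nat.card_eq_fintype_card, Fintype.card_subtype]]
      rw [card_isConj_eq_index, mul_comm, Subgroup.card_mul_index]
    rw [show (Finset.univ.filter fun s : G => IsConj (s * s) g).card = S.card from rfl, hS,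
      mul_right_comm, hC, mul_comm]
  have hcong : ∀ s ∈ Finset.univ.filter (fun s : G => IsConj (s * s) g),
      Nat.card ↥(Subgroup.centralizer ({s * s} : Set G)) =
        Nat.card ↥(Subgroup.centralizer ({g} : Set G)) := by
    intro s hs
    obtain ⟨x, hx⟩ := isConj_iff.1 (Finset.mem_filter.1 hs).2
    refine Nat.card_congr ((MulAut.conj x).toEquiv.subtypeEquiv fun y => ?_)
    simp only [Subgroup.mem_centralizer_singleton_iff, MulEquiv.toEquiv_eq_coe,
      MulEquiv.coe_toEquiv, MulAut.conj_apply]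
    constructor
    · intro h
      rw [← hx]
      calc x * y * x⁻¹ * (x * (s * s) * x⁻¹) = x * (y * (s * s)) * x⁻¹ := by group
        _ = _ := by rw [h]; group
    · intro h
      rw [← hx] at h
      have := congrArg (fun z => x⁻¹ * z * x) h
      simpa [mul_assoc] using this
  rw [Finset.sum_congr rfl (fun s hs => by rw [hcong s hs]), Finset.sum_const, nsmul_eq_mul,
    ← Nat.cast_mul, hcount, Nat.cast_mul, mul_left_comm, inv_mul_cancel₀ hG, mul_one]

open scoped Classical in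
/-- The irreducible characters outside three families. -/
def outside (T T' T'' : Tor G) : Finset (IrrCharacter G) :=
  Finset.univ \ (T.F.E ∪ T'.F.E ∪ T''.F.E)

theorem mem_outside {T T' T'' : Tor G} {χ : IrrCharacter G} :
    χ ∈ outside T T' T'' ↔ χ ∉ T.F.E ∧ χ ∉ T'.F.E ∧ χ ∉ T''.F.E := by
  classical simp [outside, and_assoc]

theorem outside_swap (T T' T'' : Tor G) : outside T' T T'' = outside T T' T'' := by
  ext χ; simp only [mem_outside]; tauto

theorem outside_rot (T T' T'' : Tor G) : outside T'' T T' = outside T T' T'' := by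
  ext χ; simp only [mem_outside]; tauto

/-- Three pairwise non-conjugate subgroups. -/
structure Trio (T T' T'' : Tor G) : Prop where
  h12 : Apart T T'
  h13 : Apart T T''
  h23 : Apart T' T''

variable {T T' T'' : Tor G}

theorem Trio.swap (h : Trio T T' T'') : Trio T' T T'' := ⟨h.h12.symm, h.h23, h.h13⟩

theorem Trio.rot (h : Trio T T' T'') : Trio T'' T T' := ⟨h.h13.symm, h.h23.symm, h.h12⟩

theorem Trio.split (h : Trio T T' T'') {M : Type*} [AddCommMonoid M] (f : IrrCharacter G → M) :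
    ∑ χ, f χ = ∑ χ ∈ outside T T' T'', f χ +
      (∑ χ ∈ T.F.E, f χ + ∑ χ ∈ T'.F.E, f χ + ∑ χ ∈ T''.F.E, f χ) := by
  classical
  have d1 : Disjoint T.F.E T'.F.E :=
    Finset.disjoint_left.2 fun χ a b => h.h12.notMem_fam b a
  have d2 : Disjoint (T.F.E ∪ T'.F.E) T''.F.E := Finset.disjoint_union_left.2
    ⟨Finset.disjoint_left.2 fun χ a b => h.h13.notMem_fam b a,
      Finset.disjoint_left.2 fun χ a b => h.h23.notMem_fam b a⟩
  rw [← Finset.sum_union d1, ← Finset.sum_union d2, outside,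
    Finset.sum_sdiff (Finset.subset_univ _)]

theorem Trio.card_irr (h : Trio T T' T'') :
    Fintype.card (IrrCharacter G) = (outside T T' T'').card + (T.k + T'.k + T''.k) := by
  have := h.split (fun _ => (1 : ℕ))
  simp only [Finset.sum_const, smul_eq_mul, mul_one, T.F.card_E, T'.F.card_E, T''.F.card_E,
    Finset.card_univ] at this
  exact this

theorem Trio.norm (h : Trio T T' T'') :
    ∑ χ ∈ outside T T' T'', T.F.c χ ^ 2 + T'.k * T.d T' ^ 2 + T''.k * T.d T'' ^ 2 + T.q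
      = (T.e : ℤ) := by
  classical
  have h0 := column_orth (G := G) T.a T.a
  rw [if_pos (IsConj.refl _), T.card_centralizer T.a_mem T.a_ne, h.split,
    T.F.sum_sq _ T.a_mem T.a_ne,
    T'.sum_const (c := (T.d T' : ℂ) * T.d T') (fun χ hχ => by
      rw [h.h12.val_eq hχ T.a_mem T.a_ne, map_intCast]),
    T''.sum_const (c := (T.d T'' : ℂ) * T.d T'') (fun χ hχ => by
      rw [h.h13.val_eq hχ T.a_mem T.a_ne, map_intCast]),
    Finset.sum_congr (s₁ := outside T T' T'') rfl (fun χ hχ => show (χ : G → ℂ) T.a * conj ((χ : G → ℂ) T.a) =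
        ((T.F.c χ ^ 2 : ℤ) : ℂ) by
      rw [T.F.val χ (mem_outside.1 hχ).1 _ T.a_mem T.a_ne, map_intCast]; push_cast; ring)] at h0
  have e : ((∑ χ ∈ outside T T' T'', T.F.c χ ^ 2 + T'.k * T.d T' ^ 2 + T''.k * T.d T'' ^ 2 +
      (T.k * T.F.c₀ ^ 2 - 2 * T.F.ε * T.F.c₀) : ℤ) : ℂ) = ((T.e : ℤ) : ℂ) := by
    push_cast at h0 ⊢
    linear_combination h0
  exact_mod_cast e

theorem Trio.orth (h : Trio T T' T'') :
    ∑ χ ∈ outside T T' T'', T.F.c χ * T'.F.c χ + T.σ * T'.d T + T'.σ * T.d T' +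
      T''.k * T.d T'' * T'.d T'' = 0 := by
  classical
  have h0 := column_orth (G := G) T.a T'.a
  rw [if_neg (h.h12.not_isConj T.a_mem T.a_ne T'.a_mem), h.split,
    T''.sum_const (c := (T.d T'' : ℂ) * T'.d T'') (fun χ hχ => by
      rw [h.h13.val_eq hχ T.a_mem T.a_ne, h.h23.val_eq hχ T'.a_mem T'.a_ne, map_intCast]),
    Finset.sum_congr (s₁ := T.F.E) rfl (fun χ hχ => show (χ : G → ℂ) T.a * conj ((χ : G → ℂ) T'.a) =
        (χ : G → ℂ) T.a * (T'.d T : ℂ) by
      rw [h.h12.symm.val_eq hχ T'.a_mem T'.a_ne, map_intCast]),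
    Finset.sum_congr (s₁ := T'.F.E) rfl (fun χ hχ => show (χ : G → ℂ) T.a * conj ((χ : G → ℂ) T'.a) =
        (T.d T' : ℂ) * conj ((χ : G → ℂ) T'.a) by
      rw [h.h12.val_eq hχ T.a_mem T.a_ne]),
    ← Finset.sum_mul, ← Finset.mul_sum, ← map_sum, T.F.sum_val _ T.a_mem T.a_ne,
    T'.F.sum_val _ T'.a_mem T'.a_ne, map_intCast,
    Finset.sum_congr (s₁ := outside T T' T'') rfl (fun χ hχ => show (χ : G → ℂ) T.a * conj ((χ : G → ℂ) T'.a) =
        ((T.F.c χ * T'.F.c χ : ℤ) : ℂ) by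
      rw [T.F.val χ (mem_outside.1 hχ).1 _ T.a_mem T.a_ne,
        T'.F.val χ (mem_outside.1 hχ).2.1 _ T'.a_mem T'.a_ne, map_intCast, Int.cast_mul])] at h0
  have e : ((∑ χ ∈ outside T T' T'', T.F.c χ * T'.F.c χ + T.σ * T'.d T + T'.σ * T.d T' +
      T''.k * T.d T'' * T'.d T'' : ℤ) : ℂ) = ((0 : ℤ) : ℂ) := by
    simp only [Tor.σ]
    push_cast at h0 ⊢
    linear_combination h0
  exact_mod_cast e

theorem Trio.dega (h : Trio T T' T'') :
    ∑ χ ∈ outside T T' T'', T.F.c χ * (charDegree (χ : G → ℂ) : ℤ) + T.σ * T.deg +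
      T'.k * T.d T' * T'.deg + T''.k * T.d T'' * T''.deg = 0 := by
  classical
  have h0 := column_orth (G := G) T.a 1
  rw [if_neg (fun hc => T.a_ne (isConj_one_left.1 hc)), h.split] at h0
  have hconst : ∀ (S : Tor G) (χ : IrrCharacter G), χ ∈ S.F.E →
      conj ((χ : G → ℂ) 1) = (S.deg : ℂ) := by
    intro S χ hχ
    rw [← S.deg_eq hχ, CfsgLib.Chars17.conj_irr_one, ← CfsgLib.Chars17.cast_irrDegree]
    norm_num
  rw [T'.sum_const (c := (T.d T' : ℂ) * T'.deg) (fun χ hχ => by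
      rw [h.h12.val_eq hχ T.a_mem T.a_ne, hconst T' χ hχ]),
    T''.sum_const (c := (T.d T'' : ℂ) * T''.deg) (fun χ hχ => by
      rw [h.h13.val_eq hχ T.a_mem T.a_ne, hconst T'' χ hχ]),
    Finset.sum_congr (s₁ := T.F.E) rfl (fun χ hχ => show (χ : G → ℂ) T.a * conj ((χ : G → ℂ) 1) =
        (χ : G → ℂ) T.a * (T.deg : ℂ) by rw [hconst T χ hχ]),
    ← Finset.sum_mul, T.F.sum_val _ T.a_mem T.a_ne,
    Finset.sum_congr (s₁ := outside T T' T'') rfl (fun χ hχ => show (χ : G → ℂ) T.a * conj ((χ : G → ℂ) 1) =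
        ((T.F.c χ * (charDegree (χ : G → ℂ) : ℤ) : ℤ) : ℂ) by
      rw [T.F.val χ (mem_outside.1 hχ).1 _ T.a_mem T.a_ne, CfsgLib.Chars17.conj_irr_one,
        ← CfsgLib.Chars17.cast_irrDegree]
      norm_num)] at h0
  have e : ((∑ χ ∈ outside T T' T'', T.F.c χ * (charDegree (χ : G → ℂ) : ℤ) + T.σ * T.deg +
      T'.k * T.d T' * T'.deg + T''.k * T.d T'' * T''.deg : ℤ) : ℂ) = ((0 : ℤ) : ℂ) := by
    simp only [Tor.σ]
    push_cast at h0 ⊢
    linear_combination h0
  exact_mod_cast e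

theorem Trio.fs (h : Trio T T' T'') {ν : IrrCharacter G → ℤ}
    (hν : ∀ χ : IrrCharacter G, CfsgLib.FrobSchur.fsInd (χ : G → ℂ) = (ν χ : ℂ)) :
    ∑ χ ∈ outside T T' T'', ν χ * T.F.c χ + T.σ + T'.k * T.d T' + T''.k * T.d T'' = 1 := by
  classical
  have h0 := sum_fsInd_mul_irr T.a
  rw [T.card_sqrt T.a_mem T.a_ne, h.split,
    T'.sum_const (c := (T.d T' : ℂ)) (fun χ hχ => by
      rw [T'.F.fs χ hχ, one_mul, h.h12.val_eq hχ T.a_mem T.a_ne]),
    T''.sum_const (c := (T.d T'' : ℂ)) (fun χ hχ => by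
      rw [T''.F.fs χ hχ, one_mul, h.h13.val_eq hχ T.a_mem T.a_ne]),
    Finset.sum_congr (s₁ := T.F.E) rfl (fun χ hχ => show
        CfsgLib.FrobSchur.fsInd (χ : G → ℂ) * (χ : G → ℂ) T.a = (χ : G → ℂ) T.a by
      rw [T.F.fs χ hχ, one_mul]),
    T.F.sum_val _ T.a_mem T.a_ne,
    Finset.sum_congr (s₁ := outside T T' T'') rfl (fun χ hχ => show
        CfsgLib.FrobSchur.fsInd (χ : G → ℂ) * (χ : G → ℂ) T.a = ((ν χ * T.F.c χ : ℤ) : ℂ) by
      rw [hν, T.F.val χ (mem_outside.1 hχ).1 _ T.a_mem T.a_ne, Int.cast_mul])] at h0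
  have e : ((∑ χ ∈ outside T T' T'', ν χ * T.F.c χ + T.σ + T'.k * T.d T' + T''.k * T.d T'' : ℤ) :
      ℂ) = ((1 : ℤ) : ℂ) := by
    simp only [Tor.σ]
    push_cast at h0 ⊢
    linear_combination h0
  exact_mod_cast e

theorem Tor.cong_deg (T : Tor G) : ((T.e * T.k + 1 : ℕ) : ℤ) ∣ T.deg + T.e * T.σ := by
  have h := T.F.cong_in T.rep T.rep_mem
  push_cast
  rw [show T.deg + T.e * T.σ = ((charDegree (T.rep : G → ℂ) : ℤ) - T.F.c₀ - T.e * T.F.ε) +
    T.F.c₀ * (T.e * T.k + 1) by rw [Tor.deg, Tor.σ]; ring]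
  exact dvd_add h (dvd_mul_left _ _)

theorem Apart.cong_deg {T T' : Tor G} (h : Apart T T') :
    ((T.e * T.k + 1 : ℕ) : ℤ) ∣ T'.deg - T.d T' := by
  have h0 := T.F.cong_out T'.rep (h.notMem_fam T'.rep_mem)
  rw [h.c_eq T'.rep_mem] at h0
  rw [Tor.deg]
  push_cast
  exact h0

theorem deg_pos' (χ : IrrCharacter G) : 0 < (charDegree (χ : G → ℂ) : ℤ) := by
  obtain ⟨n, hn, hn0, -⟩ := irr_degree_dvd_card χ
  rw [← CfsgLib.Chars17.cast_irrDegree, Nat.cast_inj] at hn
  omega

theorem deg_dvd_card (χ : IrrCharacter G) :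
    (charDegree (χ : G → ℂ) : ℤ) ∣ (Nat.card G : ℤ) := by
  obtain ⟨n, hn, -, hn1⟩ := irr_degree_dvd_card χ
  rw [← CfsgLib.Chars17.cast_irrDegree, Nat.cast_inj] at hn
  rw [hn]
  exact_mod_cast hn1

theorem Trio.principal_mem (h : Trio T T' T'') : principalIrr G ∈ outside T T' T'' := by
  have : ∀ S : Tor G, (principalIrr G : IrrCharacter G) ∉ S.F.E := by
    intro S hm
    obtain ⟨x, -, y, -, -, -, hne⟩ := S.F.nonconst _ hm
    exact hne (by simp [principalIrr])
  exact mem_outside.2 ⟨this T, this T', this T''⟩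

end CfsgLib.SuzSelfCent

end
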