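import Mathlib

/-!
# The numerical data of three self-centralizing subgroups
-/

set_option autoImplicit false

namespace CfsgLib.SuzSelfCent

universe u

/-- What is known about `σ = k c₀ - ε` and `q = k c₀² - 2 ε c₀`. -/
structure Num (k σ q : ℤ) : Prop where
  two_le : 2 ≤ k
  q_nonneg : 0 ≤ q
  q_zero : q = 0 → σ = 1 ∨ σ = -1
  σ_ne : σ ≠ 0
  q_small : q ≤ 2 → (σ = 2 ∨ σ = -2) → k = 3

theorem num_mk {k ε c₀ : ℤ} (hk : 2 ≤ k) (hε : ε = 1 ∨ ε = -1) :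
    Num k (k * c₀ - ε) (k * c₀ ^ 2 - 2 * ε * c₀) := by
  have key : c₀ = 0 ∨ c₀ = ε ∨ c₀ = -ε ∨ (2 ≤ c₀ ∨ c₀ ≤ -2) := by omega
  refine ⟨hk, ?_, ?_, ?_, ?_⟩ <;>
    rcases key with rfl | rfl | rfl | h | h <;> rcases hε with rfl | rfl <;> intros <;>
      first | omega | nlinarith

/-- The relations between the irreducible characters outside the three exceptional families (`U`),
the families (of sizes `k₁, k₂, k₃` and degrees `X, Y, Z`) and the group order. -/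
structure Dat (ι : Type u) where
  /-- the characters outside the families -/
  U : Finset ι
  /-- the principal character -/
  one : ι
  /-- values on the three subgroups -/
  c1 : ι → ℤ
  c2 : ι → ℤ
  c3 : ι → ℤ
  /-- degrees -/
  deg : ι → ℤ
  /-- indicators -/
  ν : ι → ℤ
  k1 : ℤ
  k2 : ℤ
  k3 : ℤ
  d12 : ℤ
  d13 : ℤ
  d21 : ℤ
  d23 : ℤ
  d31 : ℤ
  d32 : ℤ
  σ1 : ℤ
  σ2 : ℤ
  σ3 : ℤ
  q1 : ℤ
  q2 : ℤ
  q3 : ℤ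
  X : ℤ
  Y : ℤ
  Z : ℤ
  g : ℤ
  J : ℤ
  num1 : Num k1 σ1 q1
  num2 : Num k2 σ2 q2
  num3 : Num k3 σ3 q3
  cop12 : IsCoprime (2 * k1 + 1) (4 * k2 + 1)
  cop13 : IsCoprime (2 * k1 + 1) (4 * k3 + 1)
  cop23 : IsCoprime (4 * k2 + 1) (4 * k3 + 1)
  one_mem : one ∈ U
  c1_one : c1 one = 1
  c2_one : c2 one = 1
  c3_one : c3 one = 1
  deg_one : deg one = 1
  ν_one : ν one = 1
  deg_pos : ∀ χ ∈ U, 0 < deg χ
  X_pos : 0 < X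
  Y_pos : 0 < Y
  Z_pos : 0 < Z
  ν_cases : ∀ χ ∈ U, ν χ = 0 ∨ ν χ = 1 ∨ ν χ = -1
  norm1 : ∑ χ ∈ U, c1 χ ^ 2 + k2 * d12 ^ 2 + k3 * d13 ^ 2 + q1 = 2
  norm2 : ∑ χ ∈ U, c2 χ ^ 2 + k1 * d21 ^ 2 + k3 * d23 ^ 2 + q2 = 4
  norm3 : ∑ χ ∈ U, c3 χ ^ 2 + k1 * d31 ^ 2 + k2 * d32 ^ 2 + q3 = 4
  orth12 : ∑ χ ∈ U, c1 χ * c2 χ + σ1 * d21 + σ2 * d12 + k3 * d13 * d23 = 0
  orth13 : ∑ χ ∈ U, c1 χ * c3 χ + σ1 * d31 + σ3 * d13 + k2 * d12 * d32 = 0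
  orth23 : ∑ χ ∈ U, c2 χ * c3 χ + σ2 * d32 + σ3 * d23 + k1 * d21 * d31 = 0
  dega1 : ∑ χ ∈ U, c1 χ * deg χ + σ1 * X + k2 * d12 * Y + k3 * d13 * Z = 0
  dega2 : ∑ χ ∈ U, c2 χ * deg χ + σ2 * Y + k1 * d21 * X + k3 * d23 * Z = 0
  dega3 : ∑ χ ∈ U, c3 χ * deg χ + σ3 * Z + k1 * d31 * X + k2 * d32 * Y = 0
  fs1 : ∑ χ ∈ U, ν χ * c1 χ + σ1 + k2 * d12 + k3 * d13 = 1
  fs2 : ∑ χ ∈ U, ν χ * c2 χ + σ2 + k1 * d21 + k3 * d23 = 1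
  fs3 : ∑ χ ∈ U, ν χ * c3 χ + σ3 + k1 * d31 + k2 * d32 = 1
  invol : J + 1 = ∑ χ ∈ U, ν χ * deg χ + (k1 * X + k2 * Y + k3 * Z)
  order : g = ∑ χ ∈ U, deg χ ^ 2 + (k1 * X ^ 2 + k2 * Y ^ 2 + k3 * Z ^ 2)
  cong1 : ∀ χ ∈ U, 2 * k1 + 1 ∣ deg χ - c1 χ
  cong2 : ∀ χ ∈ U, 4 * k2 + 1 ∣ deg χ - c2 χ
  cong3 : ∀ χ ∈ U, 4 * k3 + 1 ∣ deg χ - c3 χ
  congX1 : 2 * k1 + 1 ∣ X + 2 * σ1
  congX2 : 4 * k2 + 1 ∣ X - d21
  congX3 : 4 * k3 + 1 ∣ X - d31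
  congY1 : 2 * k1 + 1 ∣ Y - d12
  congY2 : 4 * k2 + 1 ∣ Y + 4 * σ2
  congY3 : 4 * k3 + 1 ∣ Y - d32
  congZ1 : 2 * k1 + 1 ∣ Z - d13
  congZ2 : 4 * k2 + 1 ∣ Z - d23
  congZ3 : 4 * k3 + 1 ∣ Z + 4 * σ3
  dvd_g : ∀ χ ∈ U, deg χ ∣ g
  X_dvd : X ∣ g
  N_dvd : (2 * k1 + 1) * (4 * k2 + 1) * (4 * k3 + 1) ∣ g
  N_dvd_J : (2 * k1 + 1) * (4 * k2 + 1) * (4 * k3 + 1) ∣ J
  g_le : g ≤ 3 * ((2 * k1 + 1) * (4 * k2 + 1) * (4 * k3 + 1)) ^ 2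
  J_nonneg : 0 ≤ J
  J_sq : (k1 + k2 + k3) * g ≤ J * J

variable {ι : Type u}

/-- The product of the three orders. -/
def Dat.N (D : Dat ι) : ℤ := (2 * D.k1 + 1) * (4 * D.k2 + 1) * (4 * D.k3 + 1)

/-- Interchange the second and the third subgroup. -/
def Dat.swap (D : Dat ι) : Dat ι where
  U := D.U
  one := D.one
  c1 := D.c1
  c2 := D.c3
  c3 := D.c2
  deg := D.deg
  ν := D.ν
  k1 := D.k1
  k2 := D.k3
  k3 := D.k2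
  d12 := D.d13
  d13 := D.d12
  d21 := D.d31
  d23 := D.d32
  d31 := D.d21
  d32 := D.d23
  σ1 := D.σ1
  σ2 := D.σ3
  σ3 := D.σ2
  q1 := D.q1
  q2 := D.q3
  q3 := D.q2
  X := D.X
  Y := D.Z
  Z := D.Y
  g := D.g
  J := D.J
  num1 := D.num1
  num2 := D.num3
  num3 := D.num2
  cop12 := D.cop13
  cop13 := D.cop12
  cop23 := D.cop23.symm
  one_mem := D.one_mem
  c1_one := D.c1_one
  c2_one := D.c3_one
  c3_one := D.c2_one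
  deg_one := D.deg_one
  ν_one := D.ν_one
  deg_pos := D.deg_pos
  X_pos := D.X_pos
  Y_pos := D.Z_pos
  Z_pos := D.Y_pos
  ν_cases := D.ν_cases
  norm1 := by linear_combination D.norm1
  norm2 := D.norm3
  norm3 := D.norm2
  orth12 := by linear_combination D.orth13
  orth13 := by linear_combination D.orth12
  orth23 := by
    rw [Finset.sum_congr rfl (fun χ _ => mul_comm (D.c3 χ) (D.c2 χ))]
    linear_combination D.orth23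
  dega1 := by linear_combination D.dega1
  dega2 := D.dega3
  dega3 := D.dega2
  fs1 := by linear_combination D.fs1
  fs2 := D.fs3
  fs3 := D.fs2
  invol := by linear_combination D.invol
  order := by linear_combination D.order
  cong1 := D.cong1
  cong2 := D.cong3
  cong3 := D.cong2
  congX1 := D.congX1
  congX2 := D.congX3
  congX3 := D.congX2
  congY1 := D.congZ1
  congY2 := D.congZ3
  congY3 := D.congZ2
  congZ1 := D.congY1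
  congZ2 := D.congY3
  congZ3 := D.congY2
  dvd_g := D.dvd_g
  X_dvd := D.X_dvd
  N_dvd := by rw [mul_right_comm]; exact D.N_dvd
  N_dvd_J := by rw [mul_right_comm]; exact D.N_dvd_J
  g_le := by rw [mul_right_comm]; exact D.g_le
  J_nonneg := D.J_nonneg
  J_sq := by rw [add_right_comm]; exact D.J_sq

/-- Pick a term of a small sum of squares. -/
theorem sq_sum_pick [DecidableEq ι] {s : Finset ι} {f : ι → ℤ} {n : ℤ}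
    (h : ∑ χ ∈ s, f χ ^ 2 = n) (h0 : n ≠ 0) (h3 : n ≤ 3) :
    ∃ θ ∈ s, (f θ = 1 ∨ f θ = -1) ∧ ∑ χ ∈ s.erase θ, f χ ^ 2 = n - 1 := by
  obtain ⟨θ, hθ, hne⟩ := Finset.exists_ne_zero_of_sum_ne_zero (h ▸ h0 : ∑ χ ∈ s, f χ ^ 2 ≠ 0)
  have h1 : f θ ^ 2 ≤ n := h ▸ Finset.single_le_sum (fun χ _ => sq_nonneg (f χ)) hθ
  have h2 : f θ ≠ 0 := fun e => hne (by rw [e]; rfl)
  have hb : f θ < 2 := by nlinarith
  have hb' : -2 < f θ := by nlinarith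
  have hv : f θ = 1 ∨ f θ = -1 := by omega
  have hs : f θ ^ 2 = 1 := by rcases hv with e | e <;> rw [e] <;> rfl
  refine ⟨θ, hθ, hv, ?_⟩
  rw [← Finset.add_sum_erase s _ hθ, hs] at h
  omega

/-- A vanishing sum of squares. -/
theorem sq_sum_zero {s : Finset ι} {f : ι → ℤ} (h : ∑ χ ∈ s, f χ ^ 2 = 0) :
    ∀ χ ∈ s, f χ = 0 := fun χ hχ =>
  pow_eq_zero_iff two_ne_zero |>.1
    ((Finset.sum_eq_zero_iff_of_nonneg fun χ _ => sq_nonneg (f χ)).1 h χ hχ)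

end CfsgLib.SuzSelfCent
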