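import Cfsg.Agent.Lib.Characters.TIFN
import Cfsg.Agent.Lib.InvChar.InvolutionCount

/-!
# A strongly self-centralizing subgroup of even index in its normalizer
-/

set_option autoImplicit false
set_option linter.style.haveILetI false

namespace CfsgLib.SuzSelfCent

open Subgroup

universe u

variable {G : Type u} [Group G] {A : Subgroup G}

/-- Every nontrivial element has the subgroup as centralizer. -/
def SC (A : Subgroup G) : Prop := ∀ a ∈ A, a ≠ 1 → centralizer ({a} : Set G) = A

theorem SC.hC (h : SC A) : ∀ k ∈ A, k ≠ 1 → centralizer ({k} : Set G) ≤ A :=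
  fun k hk hk1 => (h k hk hk1).le

theorem SC.commute (h : SC A) {a b : G} (ha : a ∈ A) (hb : b ∈ A) : a * b = b * a := by
  rcases eq_or_ne b 1 with rfl | hb1
  · simp
  · rw [← h b hb hb1] at ha
    exact mem_centralizer_singleton_iff.1 ha

theorem SC.mem_of_commute (h : SC A) {a x : G} (ha : a ∈ A) (ha1 : a ≠ 1) (hc : x * a = a * x) :
    x ∈ A := by
  rw [← h a ha ha1]
  exact mem_centralizer_singleton_iff.2 hc

theorem SC.map_eq (h : SC A) {B : Subgroup G} (hB : SC B) {g k : G} (hk : k ∈ A) (hk1 : k ≠ 1)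
    (hg : g * k * g⁻¹ ∈ B) : A.map (MulAut.conj g).toMonoidHom = B := by
  have hne : g * k * g⁻¹ ≠ 1 := fun h0 => hk1 (conj_eq_one_iff.1 h0)
  ext x
  rw [← hB _ hg hne, mem_centralizer_singleton_iff]
  constructor
  · rintro ⟨y, hy, rfl⟩
    simp only [MulEquiv.coe_toMonoidHom, MulAut.conj_apply]
    calc g * y * g⁻¹ * (g * k * g⁻¹) = g * (y * k) * g⁻¹ := by group
      _ = g * (k * y) * g⁻¹ := by rw [h.commute hy hk]
      _ = _ := by group
  · intro hx
    refine ⟨g⁻¹ * x * g, h.mem_of_commute hk hk1 ?_, by simp [mul_assoc]⟩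
    calc g⁻¹ * x * g * k = g⁻¹ * (x * (g * k * g⁻¹)) * g := by group
      _ = g⁻¹ * ((g * k * g⁻¹) * x) * g := by rw [hx]
      _ = _ := by group

theorem SC.hTI (h : SC A) :
    ∀ g : G, g ∉ normalizer (A : Set G) → ∀ k ∈ A, g * k * g⁻¹ ∈ A → k = 1 := by
  intro g hg k hk hgk
  by_contra hk1
  refine hg (mem_normalizer_iff.2 fun x => ?_)
  have he := h.map_eq h hk hk1 hgk
  constructor
  · intro hx
    rw [← he]
    exact ⟨x, hx, by simp⟩
  · intro hx
    rw [← he] at hx
    obtain ⟨y, hy, hyx⟩ := hx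
    simp only [MulEquiv.coe_toMonoidHom, MulAut.conj_apply, mul_left_inj, mul_right_inj] at hyx
    exact hyx ▸ hy

theorem SC.free (h : SC A) : ∀ x ∈ normalizer (A : Set G), x ∉ A → ∀ k ∈ A, Commute k x → k = 1 := by
  intro x _ hx k hk hc
  by_contra hk1
  exact hx (h.mem_of_commute hk hk1 hc.symm.eq)

/-- An element of the normalizer outside `A` with square in `A` squares to one. -/
theorem SC.sq_eq_one (h : SC A) {g : G} (hg : g ∉ A) (h2 : g * g ∈ A) : g * g = 1 := by
  by_contra h1
  exact hg (h.mem_of_commute h2 h1 (mul_assoc g g g).symm)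

theorem SC.inverts [Finite G] (h : SC A) {t : G} (ht : t ∈ normalizer (A : Set G)) (htA : t ∉ A)
    (ho : orderOf t = 2) : ∀ a ∈ A, t * a * t⁻¹ = a⁻¹ := by
  haveI := Fintype.ofFinite G
  exact CfsgLib.InvChar.inverts_of_fixedPointFree ho
    (fun c hc => (mem_normalizer_iff.1 ht c).1 hc) (fun c hc hct => h.free t ht htA c hc hct)

/-- All elements outside `A` of the normalizer whose square lies in `A` form one coset. -/
theorem SC.mul_mem [Finite G] (h : SC A) {g t : G} (hgN : g ∈ normalizer (A : Set G))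
    (htN : t ∈ normalizer (A : Set G)) (hg : g ∉ A) (ht : t ∉ A) (hg2 : g * g ∈ A) (ht2 : t * t ∈ A)
    (hA : A ≠ ⊥) : g * t ∈ A := by
  obtain ⟨a, ha, ha1⟩ := A.bot_or_exists_ne_one.resolve_left hA
  have og : orderOf g = 2 := orderOf_eq_prime (by rw [pow_two]; exact h.sq_eq_one hg hg2)
    (fun h1 => hg (h1 ▸ A.one_mem))
  have ot : orderOf t = 2 := orderOf_eq_prime (by rw [pow_two]; exact h.sq_eq_one ht ht2)
    (fun h1 => ht (h1 ▸ A.one_mem))
  refine h.mem_of_commute ha ha1 ?_
  have e1 := h.inverts htN ht ot a ha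
  have e2 := h.inverts hgN hg og _ (A.inv_mem ha)
  rw [inv_inv, ← e1] at e2
  calc g * t * a = g * (t * a * t⁻¹) * g⁻¹ * (g * t) := by group
    _ = a * (g * t) := by rw [e2]

/-- The involution of the normalizer. -/
theorem SC.exists_involution [Finite G] (h : SC A) (he : 2 ∣ A.relIndex (normalizer (A : Set G))) :
    ∃ t ∈ normalizer (A : Set G), orderOf t = 2 ∧ t ∉ A ∧ Odd (Nat.card ↥A) := by
  haveI := Fintype.ofFinite G
  let K := A.subgroupOf (normalizer (A : Set G))
  haveI : Fact (Nat.Prime 2) := ⟨Nat.prime_two⟩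
  have hcop := CfsgLib.TIFN.coprime_index h.hTI h.hC
  have hodd : Odd (Nat.card ↥A) := by
    have h2 : 2 ∣ A.index := by
      rw [← Subgroup.relIndex_mul_index (le_normalizer (H := A))]
      exact dvd_mul_of_dvd_left he _
    exact Nat.Coprime.odd_of_right (Nat.Coprime.coprime_dvd_right h2 hcop)
  have h2N : 2 ∣ Nat.card ↥(normalizer (A : Set G)) := by
    rw [← Subgroup.card_mul_index K]
    exact dvd_mul_of_dvd_right he _
  obtain ⟨t, ht⟩ := exists_prime_orderOf_dvd_card' 2 h2N
  refine ⟨t, t.2, by rw [orderOf_coe]; exact ht, fun htA => ?_, hodd⟩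
  have : orderOf (t : G) ∣ Nat.card ↥A := (orderOf_mk (t : G) htA) ▸ orderOf_dvd_natCard (⟨t, htA⟩ : ↥A)
  rw [orderOf_coe, ht] at this
  exact Nat.not_even_iff_odd.2 hodd (even_iff_two_dvd.2 this)

/-- An element of order four, when the index is four. -/
theorem SC.exists_order_four [Finite G] (h : SC A) (he : A.relIndex (normalizer (A : Set G)) = 4)
    (hbot : A ≠ ⊥) :
    ∃ g : G, orderOf g = 4 ∧ ∀ x : G, x⁻¹ * g * x ∉ A := by
  haveI := Fintype.ofFinite G
  obtain ⟨t, htN, ho, htA, hodd⟩ := h.exists_involution (by rw [he]; norm_num)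
  let K := A.subgroupOf (normalizer (A : Set G))
  have ht2 : t * t ∈ A := by
    rw [← pow_two, ← ho, pow_orderOf_eq_one]; exact A.one_mem
  obtain ⟨g, hgN, hg, hg2⟩ : ∃ g ∈ normalizer (A : Set G), g ∉ A ∧ g * g ∉ A := by
    by_contra hcon
    push Not at hcon
    have hall : ∀ g ∈ normalizer (A : Set G), g ∈ A ∨ g * t ∈ A := fun g hgN => by
      by_cases hg : g ∈ A
      · exact Or.inl hg
      · exact Or.inr (h.mul_mem hgN htN hg htA (hcon g hgN hg) ht2 hbot)
    have : (A.relIndex (normalizer (A : Set G))) ≤ 2 := by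
      rw [Subgroup.relIndex, Subgroup.index]
      refine le_trans (Nat.card_le_card_of_surjective
        (fun b : Bool => ((if b then (1 : ↥(normalizer (A : Set G))) else ⟨t, htN⟩ :
          ↥(normalizer (A : Set G))) : ↥(normalizer (A : Set G)) ⧸ K)) ?_) (by simp)
      intro q
      obtain ⟨g, rfl⟩ := QuotientGroup.mk_surjective q
      rcases hall (g : G) g.2 with hg | hg
      · refine ⟨true, ?_⟩
        show (((1 : ↥(normalizer (A : Set G))) : ↥(normalizer (A : Set G)) ⧸ K)) = _
        rw [QuotientGroup.eq]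
        simpa [K, mem_subgroupOf] using hg
      · refine ⟨false, ?_⟩
        show (((⟨t, htN⟩ : ↥(normalizer (A : Set G))) : ↥(normalizer (A : Set G)) ⧸ K)) = _
        rw [QuotientGroup.eq]
        have hn := (mem_normalizer_iff.1 (inv_mem htN) _).1 hg
        simp only [inv_inv] at hn
        have ht' : t⁻¹ = t := inv_eq_of_mul_eq_one_right (h.sq_eq_one htA ht2)
        simpa [K, mem_subgroupOf, mul_assoc, h.sq_eq_one htA ht2] using hn
    omega
  haveI : K.Normal := normal_in_normalizer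
  have h4 : g ^ 4 ∈ A := by
    have := Subgroup.pow_index_mem K (⟨g, hgN⟩ : ↥(normalizer (A : Set G)))
    rw [show K.index = 4 from he] at this
    simpa [K, mem_subgroupOf] using this
  have h41 : g ^ 4 = 1 := by
    by_contra hne
    exact hg (h.mem_of_commute h4 hne (Commute.self_pow g 4).eq)
  have hord : orderOf g = 4 := by
    refine orderOf_eq_prime_pow (p := 2) (n := 1) ?_ h41
    intro h0
    exact hg2 (by rw [← pow_two]; rw [pow_one] at h0; rw [h0]; exact A.one_mem)
  refine ⟨g, hord, fun x hx => ?_⟩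
  have h1 : orderOf (x⁻¹ * g * x) = 4 := by
    rw [← hord]
    simpa using orderOf_injective (MulAut.conj x⁻¹).toMonoidHom (MulAut.conj x⁻¹).injective g
  have h2 := orderOf_mk (x⁻¹ * g * x) hx ▸ orderOf_dvd_natCard (⟨_, hx⟩ : ↥A)
  rw [h1] at h2
  exact Nat.not_even_iff_odd.2 hodd (even_iff_two_dvd.2 ((by norm_num : (2:ℕ) ∣ 4).trans h2))

end CfsgLib.SuzSelfCent
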