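import Cfsg.Agent.Lib.Characters.TIFNChar
import Cfsg.Agent.Lib.Chars17.IrrBasic
import Cfsg.Agent.Lib.Characters.FrobSchur
import Cfsg.Agent.Lib.Characters.BrauerPerm
import Cfsg.Agent.Lib.SuzSelfCent.Normalizer

/-!
# The exceptional family of a strongly self-centralizing subgroup of even index in its normalizer
-/

set_option autoImplicit false
set_option linter.style.haveILetI false
set_option maxHeartbeats 1000000

noncomputable section

namespace CfsgLib.SuzSelfCent

open Cfsg CfsgLib.Characters CfsgLib.FrobKernelChar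
open scoped ComplexConjugate

universe u

variable {G : Type u} [Group G] [Fintype G]

/-- The indicator of a relevant character of the normalizer. -/
theorem fsInd_relevant {K : Subgroup G} (hsc : SC K) {t : G}
    (htN : t ∈ Subgroup.normalizer (K : Set G)) (htA : t ∉ K) (ho : orderOf t = 2)
    (hodd : Odd (Nat.card ↥K)) [Fintype ↥(Subgroup.normalizer (K : Set G))]
    (η : IrrCharacter ↥(Subgroup.normalizer (K : Set G)))
    (hη : Relevant (K.subgroupOf (Subgroup.normalizer (K : Set G))) (η : ↥(Subgroup.normalizer (K : Set G)) → ℂ))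
    {e k : ℕ} (hdeg : (η : ↥(Subgroup.normalizer (K : Set G)) → ℂ) 1 = (e : ℂ))
    (hcardKN : Nat.card ↥(K.subgroupOf (Subgroup.normalizer (K : Set G))) = e * k + 1)
    (hN : Nat.card ↥(Subgroup.normalizer (K : Set G)) = e * Nat.card ↥K)
    (hK : Nat.card ↥K = e * k + 1) (he0 : 0 < e) :
    CfsgLib.FrobSchur.fsInd (η : ↥(Subgroup.normalizer (K : Set G)) → ℂ) = 1 := by
  classical
  let KN := K.subgroupOf (Subgroup.normalizer (K : Set G))
  haveI : KN.Normal := Subgroup.normal_in_normalizer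
  haveI : Fintype ↥KN := Fintype.ofFinite _
  have hfree := CfsgLib.TIFNChar.free (K := K) hsc.hC
  let tN : ↥(Subgroup.normalizer (K : Set G)) := ⟨t, htN⟩
  have ht2 : t * t ∈ K := by
    rw [← pow_two, ← ho, pow_orderOf_eq_one]; exact K.one_mem
  have hbot : K ≠ ⊥ := by
    obtain ⟨a, ha, hne⟩ := hη
    intro h
    apply hne
    have : a = 1 := Subtype.ext (Subgroup.mem_bot.1 (h ▸ ha : (a : G) ∈ (⊥ : Subgroup G)))
    rw [this]
  have hval : ∀ g : ↥(Subgroup.normalizer (K : Set G)), g ∉ KN →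
      (η : ↥(Subgroup.normalizer (K : Set G)) → ℂ) (g * g) = if g * tN ∈ KN then (e : ℂ) else 0 := by
    intro g hg
    by_cases h2 : g * g ∈ KN
    · have h1 : g * g = 1 := Subtype.ext (hsc.sq_eq_one hg h2)
      rw [if_pos (show g * tN ∈ KN from hsc.mul_mem g.2 htN hg htA h2 ht2 hbot), h1, hdeg]
    · rw [vanish_off hfree η.2 hη h2, if_neg]
      intro hgt
      apply h2
      have hgG : (g : G) * t ∈ K := hgt
      have e1 := hsc.inverts htN htA ho _ hgG
      have ht' : t⁻¹ = t := inv_eq_of_mul_eq_one_right (by rw [← pow_two, ← ho, pow_orderOf_eq_one])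
      show (g : G) * g ∈ K
      have e2 : (g : G) * g = 1 := by
        have h3 : (g : G) * t * (t * ((g : G) * t) * t⁻¹) = 1 := by rw [e1, mul_inv_cancel]
        have h4 : t * t = 1 := by rw [← pow_two, ← ho, pow_orderOf_eq_one]
        calc (g : G) * g = (g : G) * (t * t) * g * (t * t) := by rw [h4]; group
          _ = (g : G) * t * (t * ((g : G) * t) * t⁻¹) := by rw [ht']; group
          _ = 1 := h3
      rw [e2]; exact K.one_mem
  have hin : ∑ g ∈ Finset.univ.filter (fun g => g ∈ KN),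
      (η : ↥(Subgroup.normalizer (K : Set G)) → ℂ) (g * g) = 0 := by
    have hs := sum_eq_zero η.2 hη
    rw [← Finset.sum_subtype (Finset.univ.filter (fun g => g ∈ KN)) (fun g => by simp [KN])
      (fun g => (η : ↥(Subgroup.normalizer (K : Set G)) → ℂ) g)] at hs
    refine Eq.trans ?_ hs
    refine Finset.sum_nbij' (fun g => g * g) (fun g => g ^ ((e * k + 1 + 1) / 2)) ?_ ?_ ?_ ?_ ?_
    · intro g hg; simp only [Finset.mem_coe, Finset.mem_filter, Finset.mem_univ, true_and] at hg ⊢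
      exact mul_mem hg hg
    · intro g hg; simp only [Finset.mem_coe, Finset.mem_filter, Finset.mem_univ, true_and] at hg ⊢
      exact pow_mem hg _
    · intro g hg
      simp only [Finset.mem_coe, Finset.mem_filter, Finset.mem_univ, true_and] at hg
      have h1 : g ^ (e * k + 1) = 1 := by
        have := pow_card_eq_one' (G := ↥KN) (x := ⟨g, hg⟩)
        rw [show Nat.card ↥KN = e * k + 1 from hcardKN] at this
        exact congrArg Subtype.val this
      obtain ⟨j, hj⟩ := (hK ▸ hodd : Odd (e * k + 1))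
      rw [hj, show (2 * j + 1 + 1) / 2 = j + 1 by omega, ← pow_two, ← pow_mul,
        show 2 * (j + 1) = 2 * j + 1 + 1 by ring, pow_succ, ← hj, h1, one_mul]
    · intro g hg
      simp only [Finset.mem_coe, Finset.mem_filter, Finset.mem_univ, true_and] at hg
      have h1 : g ^ (e * k + 1) = 1 := by
        have := pow_card_eq_one' (G := ↥KN) (x := ⟨g, hg⟩)
        rw [show Nat.card ↥KN = e * k + 1 from hcardKN] at this
        exact congrArg Subtype.val this
      obtain ⟨j, hj⟩ := (hK ▸ hodd : Odd (e * k + 1))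
      rw [hj, show (2 * j + 1 + 1) / 2 = j + 1 by omega, ← pow_add,
        show (j + 1) + (j + 1) = 2 * j + 1 + 1 by ring, pow_succ, ← hj, h1, one_mul]
    · intro g _; rfl
  have hout : ∑ g ∈ Finset.univ.filter (fun g => ¬ g ∈ KN),
      (η : ↥(Subgroup.normalizer (K : Set G)) → ℂ) (g * g) = (e : ℂ) * (Nat.card ↥KN : ℂ) := by
    rw [Finset.sum_congr rfl (fun g hg => hval g (Finset.mem_filter.1 hg).2), ← Finset.sum_filter,
      Finset.sum_const, nsmul_eq_mul, mul_comm]
    congr 2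
    rw [Nat.card_eq_fintype_card, ← Finset.card_univ]
    refine Finset.card_bij' (fun g hg => (⟨g * tN, (Finset.mem_filter.1 hg).2⟩ : ↥KN))
      (fun a _ => (a : ↥(Subgroup.normalizer (K : Set G))) * tN⁻¹) (fun _ _ => Finset.mem_univ _) ?_ ?_ ?_
    · intro a _
      refine Finset.mem_filter.2 ⟨Finset.mem_filter.2 ⟨Finset.mem_univ _, fun h => htA ?_⟩, by simp⟩
      have := KN.mul_mem (KN.inv_mem a.2) h
      rw [inv_mul_cancel_left] at this
      simpa [KN, Subgroup.mem_subgroupOf, tN] using this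
    · intro g _; simp
    · intro a _; simp
  rw [CfsgLib.FrobSchur.fsInd_eq_sum, ← Finset.sum_filter_add_sum_filter_not Finset.univ (fun g => g ∈ KN),
    hin, hout, zero_add, hcardKN, hN, hK]
  have h1 : ((e * k + 1 : ℕ) : ℂ) ≠ 0 := Nat.cast_ne_zero.2 (by omega)
  have h2 : ((e : ℕ) : ℂ) ≠ 0 := Nat.cast_ne_zero.2 (by omega)
  rw [Nat.cast_mul e (e * k + 1)]
  field_simp

/-- The data of the exceptional family of a subgroup `K` of order `e k + 1`. -/
structure Fam (K : Subgroup G) (e k : ℕ) where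
  /-- the exceptional characters -/
  E : Finset (IrrCharacter G)
  /-- the common sign -/
  ε : ℤ
  /-- the constant part on the nontrivial elements of `K` -/
  c : IrrCharacter G → ℤ
  /-- the common constant of the family -/
  c₀ : ℤ
  card_E : E.card = k
  sign : ε = 1 ∨ ε = -1
  c_eq : ∀ χ ∈ E, c χ = c₀
  agree : ∀ χ ∈ E, ∀ ψ ∈ E, ∀ y : G, (∀ x : G, x⁻¹ * y * x ∈ K → x⁻¹ * y * x = 1) →
    (χ : G → ℂ) y = (ψ : G → ℂ) y
  val : ∀ χ : IrrCharacter G, χ ∉ E → ∀ x ∈ K, x ≠ 1 → (χ : G → ℂ) x = (c χ : ℂ)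
  cong_out : ∀ χ : IrrCharacter G, χ ∉ E → (e * k + 1 : ℤ) ∣ (charDegree (χ : G → ℂ) : ℤ) - c χ
  cong_in : ∀ χ : IrrCharacter G, χ ∈ E → (e * k + 1 : ℤ) ∣ (charDegree (χ : G → ℂ) : ℤ) - c₀ - e * ε
  nonconst : ∀ χ ∈ E, ∃ x ∈ K, ∃ y ∈ K, x ≠ 1 ∧ y ≠ 1 ∧ (χ : G → ℂ) x ≠ (χ : G → ℂ) y
  separated : ∀ χ ∈ E, ∀ ψ ∈ E, χ ≠ ψ → ∃ x ∈ K, x ≠ 1 ∧ (χ : G → ℂ) x ≠ (ψ : G → ℂ) x
  sum_val : ∀ x ∈ K, x ≠ 1 → ∑ χ ∈ E, (χ : G → ℂ) x = ((k * c₀ - ε : ℤ) : ℂ)
  sum_sq : ∀ x ∈ K, x ≠ 1 → ∑ χ ∈ E, (χ : G → ℂ) x * conj ((χ : G → ℂ) x) =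
    ((k * c₀ ^ 2 - 2 * ε * c₀ + e * k + 1 - e : ℤ) : ℂ)
  fs : ∀ χ ∈ E, CfsgLib.FrobSchur.fsInd (χ : G → ℂ) = 1

theorem exists_fam (K : Subgroup G)
    (hsc : SC K) {e k : ℕ} (he : 2 ∣ e) (he0 : 0 < e) (hk2 : 2 ≤ k)
    (hK : Nat.card ↥K = e * k + 1)
    (hN : Nat.card ↥(Subgroup.normalizer (K : Set G)) = e * Nat.card ↥K) :
    Nonempty (Fam K e k) := by
  classical
  have hTI := hsc.hTI
  have hC := hsc.hC
  have hab : ∀ a ∈ K, ∀ b ∈ K, a * b = b * a := fun a ha b hb => hsc.commute ha hb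
  have hec : (e : ℂ) ≠ 0 := Nat.cast_ne_zero.2 (by omega)
  obtain ⟨εC, f, hεC, hf, hτ⟩ := CfsgLib.TIFNChar.exceptional_abelian hTI hC hab
  let KN := K.subgroupOf (Subgroup.normalizer (K : Set G))
  have : Fintype ↥(Subgroup.normalizer (K : Set G)) := Fintype.ofFinite _
  have : KN.Normal := Subgroup.normal_in_normalizer
  have hcardKN : Nat.card ↥KN = e * k + 1 := by
    rw [Nat.card_congr (Subgroup.subgroupOfEquivOfLe (Subgroup.le_normalizer (H := K))).toEquiv, hK]
  have hidx : KN.index = e := by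
    have h := Subgroup.card_mul_index KN
    rw [hcardKN, hN, hK] at h
    exact Nat.eq_of_mul_eq_mul_left (Nat.succ_pos (e * k)) (h.trans (mul_comm _ _))
  have hfree := CfsgLib.TIFNChar.free (K := K) hC
  have hdeg : ∀ η : IrrCharacter ↥(Subgroup.normalizer (K : Set G)), Relevant KN (η : ↥(Subgroup.normalizer (K : Set G)) → ℂ) → (η : ↥(Subgroup.normalizer (K : Set G)) → ℂ) 1 = (e : ℂ) := by
    intro η hη
    rw [CfsgLib.TIFNChar.degree_eq_index hC hab hη]
    exact_mod_cast hidx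
  -- the number of relevant characters
  have hcard : (relSet KN).card = k := by
    have h := sum_sq_degrees (G := ↥(Subgroup.normalizer (K : Set G)))
    simp only [sq] at h
    rw [← Finset.sum_add_sum_compl (relSet KN), sum_sq_irrelevant, hidx,
      Finset.sum_congr rfl (fun η hη => by rw [hdeg η (mem_relSet.1 hη)]), Finset.sum_const,
      nsmul_eq_mul, hN, hK] at h
    have h' : (relSet KN).card * (e * e) + e = e * (e * k + 1) := by exact_mod_cast h
    have h3 : (relSet KN).card * (e * e) = k * (e * e) := by ring_nf at h' ⊢; omega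
    exact Nat.eq_of_mul_eq_mul_right (Nat.mul_pos he0 he0) h3
  -- the sums over the relevant characters
  have hsum1 : ∀ x ∈ KN, x ≠ 1 → ∑ η ∈ relSet KN, (η : ↥(Subgroup.normalizer (K : Set G)) → ℂ) x = -1 := by
    intro x hx hx1
    have h := sum_degree_mul_relevant hx hx1
    rw [Finset.sum_congr rfl (fun η hη => by rw [hdeg η (mem_relSet.1 hη)]), ← Finset.mul_sum, hidx] at h
    push_cast at h
    exact mul_left_cancel₀ hec (by linear_combination h)
  have hsum2 : ∀ x ∈ KN, x ≠ 1 →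
      ∑ η ∈ relSet KN, (η : ↥(Subgroup.normalizer (K : Set G)) → ℂ) x * conj ((η : ↥(Subgroup.normalizer (K : Set G)) → ℂ) x) = (e : ℂ) * k + 1 - e := by
    intro x hx hx1
    have hcen : Subgroup.centralizer ({x} : Set ↥(Subgroup.normalizer (K : Set G))) = KN := by
      refine le_antisymm (fun y hy => ?_) (fun y hy => ?_)
      · exact hC (x : G) hx (fun h => hx1 (Subtype.ext h))
          (Subgroup.mem_centralizer_singleton_iff.2
            (congrArg Subtype.val (Subgroup.mem_centralizer_singleton_iff.1 hy)))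
      · exact Subgroup.mem_centralizer_singleton_iff.2 (Subtype.ext (hab _ hy _ hx))
    have h := column_orth (G := ↥(Subgroup.normalizer (K : Set G))) x x
    rw [if_pos (IsConj.refl x), hcen, hcardKN, ← Finset.sum_add_sum_compl (relSet KN)] at h
    have h2 : ∑ η ∈ (relSet KN)ᶜ, (η : ↥(Subgroup.normalizer (K : Set G)) → ℂ) x * conj ((η : ↥(Subgroup.normalizer (K : Set G)) → ℂ) x) = (e : ℂ) := by
      rw [Finset.sum_congr rfl (fun η hη => by
        rw [eq_on_of_notMem hη hx, CfsgLib.Chars17.conj_irr_one]), sum_sq_irrelevant, hidx]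
    rw [h2] at h
    push_cast at h
    linear_combination h
  -- the sign
  obtain ⟨ε, hε, hεval⟩ : ∃ ε : ℤ, (ε = 1 ∨ ε = -1) ∧ εC = (ε : ℂ) := by
    rcases hεC with h | h
    · exact ⟨1, Or.inl rfl, by rw [h, Int.cast_one]⟩
    · exact ⟨-1, Or.inr rfl, by rw [h]; norm_num⟩
  have hεsq : (ε : ℂ) * ε = 1 := by rcases hε with h | h <;> rw [h] <;> norm_num
  have hcl : ∀ η ξ : IrrCharacter ↥(Subgroup.normalizer (K : Set G)), IsClassFunction ↥(Subgroup.normalizer (K : Set G)) ((η : ↥(Subgroup.normalizer (K : Set G)) → ℂ) - (ξ : ↥(Subgroup.normalizer (K : Set G)) → ℂ)) :=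
    fun η ξ => isClassFunction_sub (irr_isClassFunction η) (irr_isClassFunction ξ)
  have hsupp : ∀ η ξ : IrrCharacter ↥(Subgroup.normalizer (K : Set G)), Relevant KN (η : ↥(Subgroup.normalizer (K : Set G)) → ℂ) → Relevant KN (ξ : ↥(Subgroup.normalizer (K : Set G)) → ℂ) →
      ∀ x : ↥(Subgroup.normalizer (K : Set G)), x ∉ KN → ((η : ↥(Subgroup.normalizer (K : Set G)) → ℂ) - (ξ : ↥(Subgroup.normalizer (K : Set G)) → ℂ)) x = 0 := fun η ξ hη hξ x hx => by
    simp [vanish_off hfree η.2 hη hx, vanish_off hfree ξ.2 hξ hx]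
  let Rel' := {χ : IrrCharacter ↥(Subgroup.normalizer (K : Set G)) // Relevant KN (χ : ↥(Subgroup.normalizer (K : Set G)) → ℂ)}
  -- the values of the differences
  have hdiff : ∀ (η ξ : Rel') (x : ↥(Subgroup.normalizer (K : Set G))), (ε : ℂ) * ((f η : G → ℂ) x - (f ξ : G → ℂ) x) =
      (η.1 : ↥(Subgroup.normalizer (K : Set G)) → ℂ) x - (ξ.1 : ↥(Subgroup.normalizer (K : Set G)) → ℂ) x := by
    intro η ξ x
    have h := congrFun (CfsgLib.TIFNChar.res_ind hTI hC (hcl η.1 ξ.1) (hsupp η.1 ξ.1 η.2 ξ.2)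
      (by simp [hdeg _ η.2, hdeg _ ξ.2])) x
    rw [hτ η ξ, hεval] at h
    simpa using h
  have hoff : ∀ (η ξ : Rel') (y : G), (∀ x : G, x⁻¹ * y * x ∈ K → x⁻¹ * y * x = 1) →
      (f η : G → ℂ) y = (f ξ : G → ℂ) y := by
    intro η ξ y hy
    have h := congrFun (hτ η ξ) y
    have h0 : indFun (Subgroup.normalizer (K : Set G)) ((η.1 : ↥(Subgroup.normalizer (K : Set G)) → ℂ) - (ξ.1 : ↥(Subgroup.normalizer (K : Set G)) → ℂ)) y = 0 := by
      rw [CfsgLib.Induction.indFun_apply]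
      refine mul_eq_zero_of_right _ (Finset.sum_eq_zero fun x _ => ?_)
      by_cases hx : x⁻¹ * y * x ∈ (Subgroup.normalizer (K : Set G))
      · rw [show x⁻¹ * y * x = ((⟨_, hx⟩ : ↥(Subgroup.normalizer (K : Set G))) : G) from rfl,
          CfsgLib.Induction.extendByZero_mem _ _ (Subtype.mem _)]
        by_cases hxK : x⁻¹ * y * x ∈ K
        · have h1 : (⟨_, hx⟩ : ↥(Subgroup.normalizer (K : Set G))) = 1 := Subtype.ext (hy x hxK)
          simp [h1, hdeg _ η.2, hdeg _ ξ.2]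
        · exact hsupp η.1 ξ.1 η.2 ξ.2 _ hxK
      · exact CfsgLib.Induction.extendByZero_notMem _ _ hx
    rw [h0, hεval, Pi.smul_apply, Pi.sub_apply, smul_eq_mul, eq_comm, mul_eq_zero] at h
    exact sub_eq_zero.1 (h.resolve_left (fun h0 => by rw [h0, zero_mul] at hεsq; exact zero_ne_one hεsq))
  obtain ⟨η₀⟩ : Nonempty Rel' := by
    obtain ⟨η, hη⟩ := Finset.card_pos.1 (hcard.symm ▸ (by omega) : 0 < (relSet KN).card)
    exact ⟨⟨η, mem_relSet.1 hη⟩⟩
  -- multiplicities in the restriction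
  have hmult : ∀ (χ : IrrCharacter G) (η : IrrCharacter ↥(Subgroup.normalizer (K : Set G))), ∃ n : ℕ,
      classInner (fun x : ↥(Subgroup.normalizer (K : Set G)) => (χ : G → ℂ) x) (η : ↥(Subgroup.normalizer (K : Set G)) → ℂ) = n := fun χ η =>
    classInner_char_nat (CfsgLib.Clifford.isCharacter_subtype (irr_isCharacter χ) (Subgroup.normalizer (K : Set G))) (irr_isCharacter η)
  choose n hn using hmult
  have hcross : ∀ (χ : IrrCharacter G) (η ξ : Rel'), (n χ η.1 : ℤ) - n χ ξ.1 =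
      ε * ((if χ = f η then 1 else 0) - (if χ = f ξ then 1 else 0)) := by
    intro χ η ξ
    have h := CfsgLib.Induction.classInner_indFun_right (Subgroup.normalizer (K : Set G)) ((η.1 : ↥(Subgroup.normalizer (K : Set G)) → ℂ) - (ξ.1 : ↥(Subgroup.normalizer (K : Set G)) → ℂ))
      (irr_isClassFunction χ)
    rw [hτ η ξ, hεval, classInner_smul_right, classInner_sub_right, classInner_sub_right, hn, hn,
      classInner_irr, classInner_irr, map_intCast] at h
    have h' : ((((n χ η.1 : ℤ) - n χ ξ.1) : ℤ) : ℂ) =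
        ((ε * ((if χ = f η then 1 else 0) - (if χ = f ξ then 1 else 0)) : ℤ) : ℂ) := by
      push_cast
      linear_combination -h
    exact_mod_cast h'
  let E : Finset (IrrCharacter G) := Finset.univ.image f
  let M : IrrCharacter G → ℤ := fun χ => (n χ η₀.1 : ℤ) - ε * (if χ = f η₀ then 1 else 0)
  have hn' : ∀ (χ : IrrCharacter G) (η : Rel'), (n χ η.1 : ℤ) = M χ + ε * (if χ = f η then 1 else 0) :=
    fun χ η => by simp only [M]; linear_combination hcross χ η η₀
  let c : IrrCharacter G → ℤ := fun χ =>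
    (charDegree (χ : G → ℂ) : ℤ) - (e : ℤ) * (∑ η ∈ relSet KN, (n χ η : ℤ)) - M χ
  have hexp : ∀ (χ : IrrCharacter G) (x : ↥(Subgroup.normalizer (K : Set G))), x ∈ KN → x ≠ 1 → (χ : G → ℂ) x =
      (c χ : ℂ) + ∑ η : Rel', (ε : ℂ) * (if χ = f η then 1 else 0) * (η.1 : ↥(Subgroup.normalizer (K : Set G)) → ℂ) x := by
    intro χ x hx hx1
    obtain ⟨C, hC'⟩ := expansion (K := KN)
      (φ := fun x : ↥(Subgroup.normalizer (K : Set G)) => (χ : G → ℂ) x) (fun a b => irr_isClassFunction χ (a : G) (b : G))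
    have e1 := hC' 1 (one_mem _)
    have ex := hC' x hx
    simp only [hn] at e1 ex
    rw [Finset.sum_congr rfl (fun η hη => by rw [hdeg η (mem_relSet.1 hη)]), ← Finset.sum_mul,
      OneMemClass.coe_one, ← CfsgLib.Chars17.cast_irrDegree] at e1
    have e2 : ∑ η ∈ relSet KN, (n χ η : ℂ) * (η : ↥(Subgroup.normalizer (K : Set G)) → ℂ) x = -(M χ : ℂ) +
        ∑ η : Rel', (ε : ℂ) * (if χ = f η then 1 else 0) * (η.1 : ↥(Subgroup.normalizer (K : Set G)) → ℂ) x := by
      rw [Finset.sum_subtype (relSet KN) (p := fun η : IrrCharacter ↥(Subgroup.normalizer (K : Set G)) => Relevant KN (η : ↥(Subgroup.normalizer (K : Set G)) → ℂ))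
        (fun η => mem_relSet)]
      trans ∑ η : Rel', ((M χ : ℂ) * (η.1 : ↥(Subgroup.normalizer (K : Set G)) → ℂ) x +
        (ε : ℂ) * (if χ = f η then 1 else 0) * (η.1 : ↥(Subgroup.normalizer (K : Set G)) → ℂ) x)
      · refine Finset.sum_congr rfl fun η _ => ?_
        have := congrArg (fun z : ℤ => (z : ℂ)) (hn' χ η)
        push_cast at this
        rw [this]
        ring
      · rw [Finset.sum_add_distrib, ← Finset.mul_sum,
          ← Finset.sum_subtype (relSet KN) (fun η => mem_relSet) (fun η => (η : ↥(Subgroup.normalizer (K : Set G)) → ℂ) x),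
          hsum1 x hx hx1]
        ring
    rw [ex, e2]
    simp only [c]
    push_cast
    linear_combination -e1
  have hout : ∀ χ, χ ∉ E → ∀ η : Rel', χ ≠ f η := fun χ hχ η h =>
    hχ (Finset.mem_image.2 ⟨η, Finset.mem_univ _, h.symm⟩)
  have hin : ∀ (η : Rel') (x : ↥(Subgroup.normalizer (K : Set G))), x ∈ KN → x ≠ 1 →
      (f η : G → ℂ) x = (c (f η) : ℂ) + (ε : ℂ) * (η.1 : ↥(Subgroup.normalizer (K : Set G)) → ℂ) x := by
    intro η x hx hx1
    rw [hexp _ x hx hx1, Finset.sum_eq_single η]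
    · simp
    · intro ξ _ hξ
      rw [if_neg (fun h => hξ (hf h).symm)]
      ring
    · simp
  have hcards : Fintype.card Rel' = k := by
    rw [Fintype.card_of_subtype (relSet KN) (fun η => mem_relSet), hcard]
  have hsumn : ∀ χ : IrrCharacter G, ∑ η ∈ relSet KN, (n χ η : ℤ) =
      k * M χ + ∑ η : Rel', ε * (if χ = f η then 1 else 0) := by
    intro χ
    rw [Finset.sum_subtype (relSet KN) (p := fun η : IrrCharacter ↥(Subgroup.normalizer (K : Set G)) => Relevant KN (η : ↥(Subgroup.normalizer (K : Set G)) → ℂ))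
      (fun η => mem_relSet), Finset.sum_congr rfl (fun η _ => hn' χ η), Finset.sum_add_distrib,
      Finset.sum_const, Finset.card_univ, hcards, nsmul_eq_mul]
  -- lifting the elements of `K`
  have hlift : ∀ x ∈ K, x ≠ 1 → ∃ y : ↥(Subgroup.normalizer (K : Set G)), (y : G) = x ∧ y ∈ KN ∧ y ≠ 1 := fun x hx hx1 =>
    ⟨⟨x, Subgroup.le_normalizer hx⟩, rfl, hx, fun h => hx1 (congrArg Subtype.val h)⟩
  obtain ⟨x₀, hx₀, hx₀1⟩ : ∃ x : ↥(Subgroup.normalizer (K : Set G)), x ∈ KN ∧ x ≠ 1 := by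
    obtain ⟨a, ha, ha1⟩ := η₀.2
    exact ⟨a, ha, fun h => ha1 (h ▸ rfl)⟩
  have hc0 : ∀ η : Rel', c (f η) = c (f η₀) := by
    intro η
    have h := hdiff η η₀ x₀
    rw [hin η x₀ hx₀ hx₀1, hin η₀ x₀ hx₀ hx₀1] at h
    have h' : (c (f η) : ℂ) = (c (f η₀) : ℂ) := by
      linear_combination (ε : ℂ) * h + ((η₀.1 : ↥(Subgroup.normalizer (K : Set G)) → ℂ) x₀ * ε - (η.1 : ↥(Subgroup.normalizer (K : Set G)) → ℂ) x₀ * ε - (c (f η) : ℂ) + (c (f η₀) : ℂ)) * hεsq
    exact_mod_cast h'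
  have hval' : ∀ χ, χ ∉ E → ∀ x ∈ K, x ≠ 1 → (χ : G → ℂ) x = (c χ : ℂ) := by
    intro χ hχ x hx hx1
    obtain ⟨y, rfl, hy, hy1⟩ := hlift x hx hx1
    rw [hexp χ y hy hy1, Finset.sum_eq_zero (fun η _ => by rw [if_neg (hout χ hχ η)]; ring), add_zero]
  have hnon : ∀ η : Rel', ∃ x ∈ K, ∃ y ∈ K, x ≠ 1 ∧ y ≠ 1 ∧ (f η : G → ℂ) x ≠ (f η : G → ℂ) y := by
    intro η
    have : Nontrivial Rel' := Fintype.one_lt_card_iff_nontrivial.1 (by omega)
    obtain ⟨ξ, hξ⟩ := exists_ne η
    obtain ⟨a, ha, b, hb, ha1, hb1, hne⟩ := exists_ne_of_two hfree η.2 ξ.2 (fun h => hξ (Subtype.ext h).symm)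
    refine ⟨a, ha, b, hb, fun h => ha1 (Subtype.ext h), fun h => hb1 (Subtype.ext h), fun h => hne ?_⟩
    rw [hin η a ha ha1, hin η b hb hb1, add_right_inj] at h
    exact mul_left_cancel₀ (fun h0 => by rw [h0, zero_mul] at hεsq; exact zero_ne_one hεsq) h
  have hsep : ∀ η ξ : Rel', (∀ x ∈ K, x ≠ 1 → (f η : G → ℂ) x = (f ξ : G → ℂ) x) → η = ξ := by
    intro η ξ hcon
    refine Subtype.ext (Subtype.ext (funext fun x => ?_))
    by_cases hx : x ∈ KN
    · by_cases hx1 : x = 1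
      · rw [hx1, hdeg _ η.2, hdeg _ ξ.2]
      · have h := hdiff η ξ x
        rw [hcon (x : G) hx (fun h => hx1 (Subtype.ext h)), sub_self, mul_zero] at h
        exact sub_eq_zero.1 h.symm
    · rw [vanish_off hfree η.1.2 η.2 hx, vanish_off hfree ξ.1.2 ξ.2 hx]
  refine ⟨{ E := E, ε := ε, c := c, c₀ := c (f η₀), card_E := ?_, sign := hε, c_eq := ?_,
            agree := ?_, val := ?_, cong_out := ?_, cong_in := ?_, nonconst := ?_, separated := ?_,
            sum_val := ?_, sum_sq := ?_, fs := ?_ }⟩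
  · simp only [E, Finset.card_image_of_injective _ hf, Finset.card_univ]
    exact hcards
  · intro e1 he1
    obtain ⟨η, -, rfl⟩ := Finset.mem_image.1 he1
    exact hc0 η
  · intro e1 he1 e2 he2 y hy
    obtain ⟨η, -, rfl⟩ := Finset.mem_image.1 he1
    obtain ⟨ξ, -, rfl⟩ := Finset.mem_image.1 he2
    exact hoff η ξ y hy
  · exact hval'
  · intro χ hχ
    refine ⟨M χ, ?_⟩
    simp only [c]
    rw [hsumn, Finset.sum_eq_zero (fun η _ => by rw [if_neg (hout χ hχ η), mul_zero])]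
    ring
  · intro χ hχ
    obtain ⟨η, -, rfl⟩ := Finset.mem_image.1 hχ
    refine ⟨M (f η), ?_⟩
    rw [← hc0 η]
    simp only [c]
    rw [hsumn, Finset.sum_eq_single η (fun ξ _ hξ => by rw [if_neg (fun h => hξ (hf h).symm), mul_zero])
      (fun h => absurd (Finset.mem_univ η) h), if_pos rfl]
    ring
  · intro e1 he1
    obtain ⟨η, -, rfl⟩ := Finset.mem_image.1 he1
    exact hnon η
  · intro e1 he1 e2 he2 hne
    obtain ⟨η, -, rfl⟩ := Finset.mem_image.1 he1
    obtain ⟨ξ, -, rfl⟩ := Finset.mem_image.1 he2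
    by_contra hcon
    push Not at hcon
    exact hne (congrArg f (hsep η ξ hcon))
  · intro x hx hx1
    obtain ⟨y, rfl, hy, hy1⟩ := hlift x hx hx1
    simp only [E]
    rw [Finset.sum_image (fun a _ b _ h => hf h), Finset.sum_congr rfl (fun η _ => by
      rw [hin η y hy hy1, hc0 η]), Finset.sum_add_distrib, ← Finset.mul_sum,
      ← Finset.sum_subtype (relSet KN) (fun η => mem_relSet) (fun η => (η : ↥(Subgroup.normalizer (K : Set G)) → ℂ) y),
      hsum1 y hy hy1, Finset.sum_const, Finset.card_univ, hcards, nsmul_eq_mul]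
    push_cast
    ring
  · intro x hx hx1
    obtain ⟨y, rfl, hy, hy1⟩ := hlift x hx hx1
    simp only [E]
    rw [Finset.sum_image (fun a _ b _ h => hf h), Finset.sum_congr rfl (fun η _ => by
      rw [hin η y hy hy1, hc0 η])]
    have hs : ∑ η : Rel', (η.1 : ↥(Subgroup.normalizer (K : Set G)) → ℂ) y = -1 := by
      rw [← Finset.sum_subtype (relSet KN) (fun η => mem_relSet) (fun η => (η : ↥(Subgroup.normalizer (K : Set G)) → ℂ) y), hsum1 y hy hy1]
    have hs2 : ∑ η : Rel', (η.1 : ↥(Subgroup.normalizer (K : Set G)) → ℂ) y * conj ((η.1 : ↥(Subgroup.normalizer (K : Set G)) → ℂ) y) = (e : ℂ) * k + 1 - e := by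
      rw [← Finset.sum_subtype (relSet KN) (fun η => mem_relSet)
        (fun η => (η : ↥(Subgroup.normalizer (K : Set G)) → ℂ) y * conj ((η : ↥(Subgroup.normalizer (K : Set G)) → ℂ) y)), hsum2 y hy hy1]
    have hs3 : ∑ η : Rel', conj ((η.1 : ↥(Subgroup.normalizer (K : Set G)) → ℂ) y) = -1 := by
      rw [← map_sum, hs, map_neg, map_one]
    set C := (c (f η₀) : ℂ) with hCdef
    trans ∑ η : Rel', (C * C + C * ε * conj ((η.1 : ↥(Subgroup.normalizer (K : Set G)) → ℂ) y) + C * ε * (η.1 : ↥(Subgroup.normalizer (K : Set G)) → ℂ) y +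
      (η.1 : ↥(Subgroup.normalizer (K : Set G)) → ℂ) y * conj ((η.1 : ↥(Subgroup.normalizer (K : Set G)) → ℂ) y))
    · refine Finset.sum_congr rfl fun η _ => ?_
      rw [map_add, map_mul, hCdef, map_intCast, map_intCast]
      linear_combination ((η.1 : ↥(Subgroup.normalizer (K : Set G)) → ℂ) y * conj ((η.1 : ↥(Subgroup.normalizer (K : Set G)) → ℂ) y)) * hεsq
    · simp only [Finset.sum_add_distrib, ← Finset.mul_sum, hs, hs2, hs3, Finset.sum_const,
        Finset.card_univ, hcards, nsmul_eq_mul, hCdef]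
      push_cast
      ring
  · intro e1 he1
    obtain ⟨η, -, rfl⟩ := Finset.mem_image.1 he1
    -- the indicator is one
    obtain ⟨t, htN, ho, htA, hodd⟩ := hsc.exists_involution
      (show 2 ∣ K.relIndex (Subgroup.normalizer (K : Set G)) by
        rw [Subgroup.relIndex]; exact hidx ▸ he)
    have hinvK := hsc.inverts htN htA ho
    have hrealK : ∀ χ : IrrCharacter G, ∀ x ∈ K, conj ((χ : G → ℂ) x) = (χ : G → ℂ) x := by
      intro χ x hx
      rw [← irr_apply_inv χ x]
      exact (classFunction_eq_of_isConj (irr_isClassFunction χ)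
        (isConj_iff.2 ⟨t, hinvK x hx⟩)).symm
    have hreal : ∀ g, ((f η : G → ℂ) g).im = 0 := by
      rw [← CfsgLib.BrauerPerm.conjIrr_eq_self_iff]
      have hcE : CfsgLib.BrauerPerm.conjIrr (f η) ∈ E := by
        by_contra hc
        obtain ⟨a, ha, b, hb, ha1, hb1, hne⟩ := hnon η
        have h1 := hval' _ hc a ha ha1
        have h2 := hval' _ hc b hb hb1
        rw [CfsgLib.BrauerPerm.conjIrr_apply, hrealK _ _ ha] at h1
        rw [CfsgLib.BrauerPerm.conjIrr_apply, hrealK _ _ hb] at h2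
        exact hne (h1.trans h2.symm)
      obtain ⟨ξ, -, hξ⟩ := Finset.mem_image.1 hcE
      have : ξ = η := hsep ξ η fun x hx _ => by
        rw [hξ, CfsgLib.BrauerPerm.conjIrr_apply, hrealK _ _ hx]
      rw [← hξ, this]
    rcases CfsgLib.FrobSchur.fsInd_cases (f η).2 with ⟨-, h1 | h1⟩ | ⟨h1, -⟩
    · exact h1
    · exfalso
      have hfsN : ∀ ξ : Rel', CfsgLib.FrobSchur.fsInd (ξ.1 : ↥(Subgroup.normalizer (K : Set G)) → ℂ) = 1 :=
        fun ξ => fsInd_relevant hsc htN htA ho hodd ξ.1 ξ.2 (hdeg _ ξ.2) hcardKN hN hK he0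
      have : Nontrivial Rel' := Fintype.one_lt_card_iff_nontrivial.1 (by omega)
      obtain ⟨ξ, hξ⟩ := exists_ne η
      have hev : ∀ ζ : Rel', Even (n (f η) ζ.1) := by
        intro ζ
        obtain ⟨j, hj, hj'⟩ := CfsgLib.FrobSchur.even_classInner_of_fsInd
          (Subgroup.subtype (Subgroup.normalizer (K : Set G))) (f η).2 h1 ζ.1.2 (hfsN ζ)
        have : (n (f η) ζ.1 : ℂ) = (j : ℂ) := (hn (f η) ζ.1).symm.trans hj'
        rwa [Nat.cast_injective this]
      have h := hcross (f η) η ξ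
      rw [if_pos rfl, if_neg (fun h => hξ (hf h).symm)] at h
      obtain ⟨a, ha⟩ := hev η
      obtain ⟨b, hb⟩ := hev ξ
      rcases hε with h' | h' <;> (rw [h', ha, hb] at h; push_cast at h; omega)
    · exact absurd hreal h1

end CfsgLib.SuzSelfCent
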