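import Cfsg.Agent.Lib.SuzSelfCent.Classes
import Cfsg.Agent.Lib.ClassicalGroups.SL2
import Cfsg.Agent.Lib.PSL2.Involution
import Cfsg.Agent.Lib.PSL2.KleinEven
import Cfsg.Agent.Lib.Schur.L34ExpTwo
import Cfsg.Agent.Lib.CITThree.Main
import Cfsg.Agent.S0348

/-!
# A group with three such subgroups is a Suzuki group
-/

set_option autoImplicit false
set_option linter.style.haveILetI false

namespace CfsgLib.SuzSelfCent

open Cfsg Matrix

universe u

/-- `PSL₂(q)` has an element of order divisible by sixteen when `2 ^ 5` divides `q ± 1`. -/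
theorem exists_sixteen_dvd {F : Type*} [Field F] [Fintype F] (hodd : Odd (Fintype.card F)) {k : ℕ}
    (hk : 5 ≤ k) (hd : 2 ^ k ∣ Fintype.card F + 1 ∨ 2 ^ k ∣ Fintype.card F - 1) :
    ∃ x : ProjectiveSpecialLinearGroup (Fin 2) F, 16 ∣ orderOf x := by
  classical
  haveI : Fact (Nat.Prime 2) := ⟨Nat.prime_two⟩
  have h2 : (2 : F) ≠ 0 := Ring.two_ne_zero (fun h => by
    have := FiniteField.even_card_iff_char_two.1 h
    have := Nat.odd_iff.1 hodd
    omega)
  have hSL : Nat.card (SpecialLinearGroup (Fin 2) F) =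
      (Fintype.card F + 1) * (Fintype.card F * (Fintype.card F - 1)) := by
    rw [← CfsgLib.PSL2.card_psl, CfsgLib.PSL2.gcd_eq_two hodd,
      ← Subgroup.card_mul_index (Subgroup.center (SpecialLinearGroup (Fin 2) F)),
      CfsgLib.PSL2.card_center_sl h2]
    rfl
  have h1 := Fintype.one_lt_card (α := F)
  obtain ⟨m, hm⟩ := hodd
  have hdvd : 2 ^ (k + 1) ∣ Nat.card (SpecialLinearGroup (Fin 2) F) := by
    rw [hSL, pow_succ]
    rcases hd with hd | hd
    · exact Nat.mul_dvd_mul hd (dvd_mul_of_dvd_right ⟨m, by omega⟩ _)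
    · rw [mul_comm (2 ^ k) 2]
      exact Nat.mul_dvd_mul ⟨m + 1, by omega⟩ (dvd_mul_of_dvd_right hd _)
  obtain ⟨P⟩ : Nonempty (Sylow 2 (SpecialLinearGroup (Fin 2) F)) := inferInstance
  obtain ⟨j, -, ⟨e⟩⟩ := CfsgLib.ClassicalGroups.SL2.sylow_two_quaternion ⟨m, hm⟩ P
  have hc : Nat.card ↥(P : Subgroup (SpecialLinearGroup (Fin 2) F)) = 4 * 2 ^ j := by
    rw [Nat.card_congr e.toEquiv, Nat.card_eq_fintype_card, QuaternionGroup.card]
  have hP : 2 ^ (k + 1) ∣ Nat.card ↥(P : Subgroup (SpecialLinearGroup (Fin 2) F)) :=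
    P.pow_dvd_card_of_pow_dvd_card hdvd
  set g : SpecialLinearGroup (Fin 2) F :=
    ((e.symm (QuaternionGroup.a 1) : ↥(P : Subgroup (SpecialLinearGroup (Fin 2) F))) :
      SpecialLinearGroup (Fin 2) F) with hg
  have hog : orderOf g = 2 * 2 ^ j := by
    rw [hg, Subgroup.orderOf_coe, MulEquiv.orderOf_eq, QuaternionGroup.orderOf_a_one]
  refine ⟨QuotientGroup.mk g, ?_⟩
  set o := orderOf (QuotientGroup.mk g : ProjectiveSpecialLinearGroup (Fin 2) F)
  have hcen : g ^ o ∈ Subgroup.center (SpecialLinearGroup (Fin 2) F) := by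
    rw [← QuotientGroup.eq_one_iff, QuotientGroup.mk_pow]
    exact pow_orderOf_eq_one _
  have h4 : (⟨g ^ o, hcen⟩ : ↥(Subgroup.center (SpecialLinearGroup (Fin 2) F))) ^ 2 = 1 := by
    have := pow_card_eq_one' (G := ↥(Subgroup.center (SpecialLinearGroup (Fin 2) F)))
      (x := ⟨g ^ o, hcen⟩)
    rwa [CfsgLib.PSL2.card_center_sl h2] at this
  have h5 : g ^ (o * 2) = 1 := by
    rw [pow_mul]
    exact congrArg Subtype.val h4
  have h6 := orderOf_dvd_of_pow_eq_one h5
  rw [hog] at h6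
  have h7 : k + 1 ≤ j + 2 := by
    rw [hc, show 4 * 2 ^ j = 2 ^ (j + 2) by ring] at hP
    exact (Nat.pow_dvd_pow_iff_le_right (by norm_num)).1 hP
  have h8 : (16 : ℕ) ∣ 2 ^ j := by
    rw [show (16 : ℕ) = 2 ^ 4 by norm_num]
    exact Nat.pow_dvd_pow 2 (by omega)
  rw [mul_comm o 2] at h6
  exact h8.trans (Nat.dvd_of_mul_dvd_mul_left (by norm_num) h6)

/-- An odd divisor of `2ᵃ m` is at most `m`. -/
theorem odd_dvd_le {N a m : ℕ} (hN : Odd N) (h : N ∣ 2 ^ a * m) (hm : 0 < m) : N ≤ m :=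
  Nat.le_of_dvd hm (((Nat.coprime_two_right.2 hN).pow_right a).dvd_of_dvd_mul_left h)

theorem suzuki_order_mod_three (m : ℕ) :
    ¬ 3 ∣ (2 ^ (2 * m + 1)) ^ 2 * ((2 ^ (2 * m + 1)) ^ 2 + 1) * (2 ^ (2 * m + 1) - 1) := by
  have h : 2 ^ (2 * m + 1) % 3 = 2 := by
    rw [pow_succ, pow_mul, Nat.mul_mod, Nat.pow_mod]; norm_num
  generalize 2 ^ (2 * m + 1) = Q at h
  obtain ⟨r, rfl⟩ : ∃ r, Q = 3 * r + 2 := ⟨Q / 3, by omega⟩
  intro hd
  rw [show 3 * r + 2 - 1 = 3 * r + 1 by omega] at hd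
  rcases (Nat.prime_three.dvd_mul).1 hd with h' | h'
  · rcases (Nat.prime_three.dvd_mul).1 h' with h' | h'
    · have := Nat.prime_three.dvd_of_dvd_pow h'
      omega
    · rw [show (3 * r + 2) ^ 2 + 1 = 3 * (3 * r * r + 4 * r + 1) + 2 by ring] at h'
      omega
  · omega

/-- **Three strongly self-centralizing subgroups.** -/
theorem isoSuzuki {G : Type u} [Group G] [Finite G] [IsSimpleGroup G]
    (hG : ¬ IsMulCommutative G) (A₁ A₂ A₃ : Subgroup G) (s1 : SC A₁) (s2 : SC A₂) (s3 : SC A₃)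
    (hnc : ∀ g : G, A₁.map (MulAut.conj g).toMonoidHom ≠ A₂ ∧
      A₁.map (MulAut.conj g).toMonoidHom ≠ A₃ ∧ A₂.map (MulAut.conj g).toMonoidHom ≠ A₃)
    (h₁ : A₁.relIndex (Subgroup.normalizer (A₁ : Set G)) = 2)
    (h₂ : A₂.relIndex (Subgroup.normalizer (A₂ : Set G)) = 4)
    (h₃ : A₃.relIndex (Subgroup.normalizer (A₃ : Set G)) = 4)
    (hn₁ : 5 ≤ Nat.card ↥A₁) (hn₂ : 5 < Nat.card ↥A₂) (hn₃ : 5 < Nat.card ↥A₃)
    (hord : Nat.card G ≤ 3 * Nat.card ↥A₁ ^ 2 * Nat.card ↥A₂ ^ 2 * Nat.card ↥A₃ ^ 2) :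
    Cfsg.Lie.IsoSuzuki G := by
  classical
  haveI : Fintype G := Fintype.ofFinite G
  obtain ⟨T₁, rfl, e1⟩ := exists_tor A₁ s1 (e := 2) dvd_rfl (by norm_num) h₁ (by omega)
  obtain ⟨T₂, rfl, e2⟩ := exists_tor A₂ s2 (e := 4) (by norm_num) (by norm_num) h₂ (by omega)
  obtain ⟨T₃, rfl, e3⟩ := exists_tor A₃ s3 (e := 4) (by norm_num) (by norm_num) h₃ (by omega)
  have h : Trio T₁ T₂ T₃ :=
    ⟨fun g => (hnc g).1, fun g => (hnc g).2.1, fun g => (hnc g).2.2⟩
  set N := Nat.card ↥T₁.A * Nat.card ↥T₂.A * Nat.card ↥T₃.A with hN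
  have hord' : Nat.card G ≤ 3 * N ^ 2 := by
    rw [hN]; exact hord.trans_eq (by ring)
  have hNd : N ∣ Nat.card G := h.prod_dvd (Subgroup.card_subgroup_dvd_card _)
    (Subgroup.card_subgroup_dvd_card _) (Subgroup.card_subgroup_dvd_card _)
  have hNodd : Odd N := (T₁.odd.mul T₂.odd).mul T₃.odd
  have hNbig : 585 ≤ N := by
    have a := T₁.hA
    have b := T₂.hA
    have c := T₃.hA
    rw [e1] at a; rw [e2] at b; rw [e3] at c
    have hcop := h.h23.coprime
    have h23 : 117 ≤ Nat.card ↥T₂.A * Nat.card ↥T₃.A := by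
      have hne : T₂.k ≠ T₃.k := by
        intro e
        rw [b, c, e, Nat.coprime_self] at hcop
        omega
      rcases Nat.lt_or_gt_of_ne hne with hlt | hlt
      · exact le_trans (by norm_num) (Nat.mul_le_mul (show 9 ≤ Nat.card ↥T₂.A by omega)
          (show 13 ≤ Nat.card ↥T₃.A by omega))
      · exact le_trans (by norm_num) (Nat.mul_le_mul (show 13 ≤ Nat.card ↥T₂.A by omega)
          (show 9 ≤ Nat.card ↥T₃.A by omega))
    rw [hN, mul_assoc]
    exact le_trans (by norm_num) (Nat.mul_le_mul hn₁ h23)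
  obtain ⟨t, -, ht, -⟩ := T₁.hsc.exists_involution (by rw [T₁.hrel, e1])
  have heven : 2 ∣ Nat.card G := ht ▸ orderOf_dvd_natCard t
  have hcit := h.cit e1 e2 e3 hord'
  have hnonab : ∃ a b : G, a * b ≠ b * a := by
    by_contra hab
    push Not at hab
    exact hG ⟨⟨hab⟩⟩
  have small : ∀ a m : ℕ, Nat.card G = 2 ^ a * m → m < 585 → False := fun a m he hm => by
    have hm0 : 0 < m := by
      rcases Nat.eq_zero_or_pos m with e | e
      · rw [e, mul_zero] at he; exact absurd he Nat.card_pos.ne'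
      · exact e
    have := odd_dvd_le hNodd (he ▸ hNd) hm0
    omega
  rcases Cfsg.Agent.S0348.result hnonab hcit with
    ⟨F, _, _, hF, ⟨e⟩⟩ | ⟨F, _, _, hF, ⟨e⟩⟩ | hsz
  · exfalso
    rcases hF with hF | ⟨n, hF⟩ | ⟨hp, k, hk⟩
    · have := CfsgLib.PSL2.card_psl (F := F)
      rw [CfsgLib.PSL2.gcd_eq_two (by rw [hF]; decide), hF] at this
      exact small 3 45 (by rw [Nat.card_congr e.toEquiv]; omega) (by norm_num)
    · obtain ⟨f, hf, -⟩ := T₂.hsc.exists_order_four (by rw [T₂.hrel, e2]) T₂.ne_bot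
      have he : Even (Fintype.card F) := by
        rcases Nat.eq_zero_or_pos n with hn | hn
        · have := Fintype.one_lt_card (α := F)
          rw [hF, hn] at this
          simp at this
        · rw [hF]; exact (Nat.even_pow).2 ⟨even_two, hn.ne'⟩
      exact CfsgLib.PSL2.orderOf_ne_four_of_even he (e f) (by rw [e.orderOf_eq, hf])
    · have hq := CfsgLib.PSL2.card_psl (F := F)
      by_cases hk5 : 5 ≤ k
      · have h32 : 32 ≤ 2 ^ k :=
          le_trans (by norm_num) (Nat.pow_le_pow_right (by norm_num : 0 < 2) hk5)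
        have hqodd : Odd (Fintype.card F) := hp.odd_of_ne_two (by rcases hk with hk | hk <;> omega)
        obtain ⟨x, hx⟩ := exists_sixteen_dvd hqodd hk5 (by
          rcases hk with hk | hk
          · right; rw [hk, Nat.add_sub_cancel]
          · left; rw [hk])
        exact h.no_sixteen e1 e2 e3 hord' (e.symm x) (by rwa [e.symm.orderOf_eq])
      · have h16 : 2 ^ k ≤ 16 :=
          le_trans (Nat.pow_le_pow_right (by norm_num : 0 < 2) (show k ≤ 4 by omega)) (by norm_num)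
        have hq17 : Fintype.card F ≤ 17 := by rcases hk with hk | hk <;> omega
        rw [← Nat.card_congr e.toEquiv] at hq
        have hqpos := hp.two_le
        obtain ⟨q, hqq⟩ : ∃ q, Fintype.card F = q := ⟨_, rfl⟩
        rw [hqq] at hp hq hq17 hqpos
        have hNq : N ∣ (q + 1) * (q * (q - 1)) := hNd.trans (Dvd.intro_left _ hq)
        have key : ∀ a m : ℕ, (q + 1) * (q * (q - 1)) = 2 ^ a * m → 0 < m → m < 585 → False :=
          fun a m he hm0 hm => by
            have := odd_dvd_le hNodd (he ▸ hNq) hm0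
            omega
        interval_cases q
        all_goals try (revert hp; norm_num; done)
        · exact key 1 3 (by norm_num) (by norm_num) (by norm_num)
        · exact key 3 3 (by norm_num) (by norm_num) (by norm_num)
        · exact key 3 15 (by norm_num) (by norm_num) (by norm_num)
        · exact key 4 21 (by norm_num) (by norm_num) (by norm_num)
        · exact key 3 165 (by norm_num) (by norm_num) (by norm_num)
        · exact key 3 273 (by norm_num) (by norm_num) (by norm_num)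
        · exact key 5 153 (by norm_num) (by norm_num) (by norm_num)
  · exfalso
    exact small 6 315 (by rw [Nat.card_congr e.toEquiv, CfsgLib.Schur.L34.card_psl hF]; norm_num)
      (by norm_num)
  · obtain ⟨-, m, -, hm⟩ := hsz
    refine CfsgLib.CITThree.isoSuzuki hcit (by rw [hm]; exact suzuki_order_mod_three m) heven ?_ ?_
    · intro M hM hodd
      refine (IsSimpleGroup.eq_bot_or_eq_top_of_normal M hM).resolve_right fun he => ?_
      rw [he, Subgroup.card_top] at hodd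
      exact Nat.not_even_iff_odd.2 hodd (even_iff_two_dvd.2 heven)
    · intro M hM hp
      refine (IsSimpleGroup.eq_bot_or_eq_top_of_normal M hM).resolve_right fun he => ?_
      haveI : Fact (Nat.Prime 2) := ⟨Nat.prime_two⟩
      obtain ⟨a, ha⟩ := IsPGroup.iff_card.1 hp
      rw [he, Subgroup.card_top] at ha
      exact small a 1 (by rw [ha, mul_one]) (by norm_num)

end CfsgLib.SuzSelfCent
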