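import Cfsg.Agent.Lib.SuzSelfCent.Check

/-!
# Reading off the finite check
-/

set_option autoImplicit false

namespace CfsgLib.SuzSelfCent

theorem exists_nat_eq_succ {x : ℤ} (h : 1 ≤ x) : ∃ x' : ℕ, (x' : ℤ) + 1 = x :=
  ⟨(x - 1).toNat, by omega⟩

theorem lcm_facts {N a b g : ℤ} (hg : 0 < g) (hN : N ∣ g) (h : (Int.lcm a b : ℤ) ∣ g) :
    0 < (Int.lcm N (Int.lcm a b : ℕ) : ℤ) ∧ (Int.lcm N (Int.lcm a b : ℕ) : ℤ) ∣ g := by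
  have hd : (Int.lcm N (Int.lcm a b : ℕ) : ℤ) ∣ g := Int.coe_lcm_dvd hN h
  refine ⟨lt_of_le_of_ne (Int.natCast_nonneg _) fun h0 => hg.ne' ?_, hd⟩
  rw [← h0] at hd
  exact zero_dvd_iff.1 hd

theorem mem_signs {s : ℤ} (hs : s = 1 ∨ s = -1) : s ∈ signs := by
  rcases hs with rfl | rfl <;> simp [signs]

theorem false_of_mainAt {k1 k2 k3 : ℕ} (h : mainAt k1 k2 k3 = true) {s x y g J V A N X Y Z m : ℤ}
    (hs : s = 1 ∨ s = -1) (hx : 1 ≤ x) (hx' : x ≤ 2 * (k1 : ℤ) + 1) (hy : 1 ≤ y)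
    (hy' : y * (2 * (k1 : ℤ) + 1) ≤ 2 * (4 * (k2 : ℤ) + 1) * x)
    (hN : N = (2 * (k1 : ℤ) + 1) * (4 * (k2 : ℤ) + 1) * (4 * (k3 : ℤ) + 1))
    (hX : X = (4 * (k2 : ℤ) + 1) * (4 * (k3 : ℤ) + 1) * x) (hm : m = X - s)
    (hY : Y = (2 * (k1 : ℤ) + 1) * (4 * (k3 : ℤ) + 1) * y) (hZ : Z = 2 * (m - s) - Y)
    (hmod : 2 * (k1 : ℤ) + 1 ∣ m - s) (hZ0 : 0 < Z)
    (hZd : (2 * (k1 : ℤ) + 1) * (4 * (k2 : ℤ) + 1) ∣ Z)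
    (hA : A = m + k1 * X + k2 * Y + k3 * Z)
    (hV : V = m * m + k1 * X * X + k2 * Y * Y + k3 * Z * Z)
    (hK : 0 < (k1 : ℤ) + k2 + k3) (hg : 0 < g) (hNg : N ∣ g) (hmg : m ∣ g) (hXg : X ∣ g)
    (hgle : g ≤ 3 * N * N) (hJ0 : 0 ≤ J) (hKg : ((k1 : ℤ) + k2 + k3) * g ≤ J * J)
    (hopt : (J ≤ A + 1 * N ∧ 2 * (1 + V) + 2 * N * N ≤ 2 * g) ∨
      (J ≤ A + 2 * N ∧ 2 * (1 + V) + 3 * N * N ≤ 2 * g) ∨
      (J ≤ A + 3 * N ∧ 2 * (1 + V) + 5 * N * N ≤ 2 * g)) : False := by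
  obtain ⟨x', rfl⟩ := exists_nat_eq_succ hx
  obtain ⟨y', rfl⟩ := exists_nat_eq_succ hy
  have h1 := List.all_eq_true.1 (List.all_eq_true.1 h s (mem_signs hs)) x'
    (List.mem_range.2 (by omega))
  simp only [Bool.or_eq_true, decide_eq_true_eq] at h1
  rw [← hX, ← hm, ← hN] at h1
  rcases h1 with h1 | h1
  · exact h1 (Int.emod_eq_zero_of_dvd hmod)
  have hy2 : y' < 2 * (4 * k2 + 1) * (x' + 1) / (2 * k1 + 1) + 1 := by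
    rw [Nat.lt_succ_iff, Nat.le_div_iff_mul_le (by omega)]
    have h' : ((y' * (2 * k1 + 1) : ℕ) : ℤ) ≤ ((2 * (4 * k2 + 1) * (x' + 1) : ℕ) : ℤ) := by
      push_cast
      nlinarith
    exact_mod_cast h'
  have h2 := List.all_eq_true.1 h1 y' (List.mem_range.2 hy2)
  simp only [Bool.or_eq_true, Bool.and_eq_true, decide_eq_true_eq] at h2
  rw [← hY, ← hZ, ← hA, ← hV] at h2
  rcases h2 with (h2 | h2) | ⟨⟨e1, e2⟩, e3⟩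
  · omega
  · exact h2 (Int.emod_eq_zero_of_dvd hZd)
  obtain ⟨hL, hLg⟩ := lcm_facts hg hNg (Int.coe_lcm_dvd hmg hXg)
  rcases hopt with ⟨a, b⟩ | ⟨a, b⟩ | ⟨a, b⟩
  · rw [noMult_false hK hL hLg b hgle hJ0 a hKg] at e1; exact Bool.false_ne_true e1
  · rw [noMult_false hK hL hLg b hgle hJ0 a hKg] at e2; exact Bool.false_ne_true e2
  · rw [noMult_false hK hL hLg b hgle hJ0 a hKg] at e3; exact Bool.false_ne_true e3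

theorem false_of_caseAAt {k2 k3 : ℕ} (h : caseAAt k2 k3 = true)
    {s t x y z g J V A N X Y Z θ pt Φ : ℤ}
    (hs : s = 1 ∨ s = -1) (ht : t = 1 ∨ t = -1)
    (hx : 1 ≤ x) (hx' : x ≤ 5 * (4 * (k2 : ℤ) + 1)) (hy : 1 ≤ y) (hy' : y ≤ 4 * (k2 : ℤ) + 1)
    (hz : 1 ≤ z) (hz' : z ≤ 4 * (k3 : ℤ) + 1)
    (hN : N = 5 * (4 * (k2 : ℤ) + 1) * (4 * (k3 : ℤ) + 1))
    (hX : X = (4 * (k3 : ℤ) + 1) * x) (hθ : θ = X - s)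
    (hX2 : 4 * (k2 : ℤ) + 1 ∣ X - s) (hX5 : 5 ∣ X - 2 * s)
    (hY : Y = 5 * (4 * (k3 : ℤ) + 1) * y) (hpt : pt = Y - 2 * X - s) (hpt0 : pt ≠ 0)
    (hpt5 : 5 ∣ pt) (hY2 : 4 * (k2 : ℤ) + 1 ∣ Y - 4 * s)
    (hZ : Z = 5 * (4 * (k2 : ℤ) + 1) * z) (hZ3 : 4 * (k3 : ℤ) + 1 ∣ Z - 4 * t)
    (hΦ : Φ = Z - t * (1 - s * θ - s * pt)) (hΦ0 : Φ ≠ 0)
    (hΦd : 5 * (4 * (k2 : ℤ) + 1) ∣ Φ)
    (hA : A = θ + 2 * X + k2 * Y + k3 * Z + Φ - pt) (hAN : N ∣ A)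
    (hV : V = θ * θ + 2 * X * X + k2 * Y * Y + k3 * Z * Z + pt * pt + Φ * Φ)
    (hg : 0 < g) (hNg : N ∣ g) (hθg : θ ∣ g) (hXg : X ∣ g) (hptg : pt ∣ g)
    (hgle : g ≤ 3 * N * N) (hJ0 : 0 ≤ J) (hKg : (2 + (k2 : ℤ) + k3) * g ≤ J * J)
    (hopt : (J ≤ A + 1 * N ∧ 2 * (1 + V) + 2 * N * N ≤ 2 * g) ∨
      (J ≤ A + 2 * N ∧ 2 * (1 + V) + 4 * N * N ≤ 2 * g)) : False := by
  obtain ⟨x', rfl⟩ := exists_nat_eq_succ hx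
  obtain ⟨y', rfl⟩ := exists_nat_eq_succ hy
  obtain ⟨z', rfl⟩ := exists_nat_eq_succ hz
  have h1 := List.all_eq_true.1 (List.all_eq_true.1 h s (mem_signs hs)) x'
    (List.mem_range.2 (by omega))
  simp only [Bool.or_eq_true, decide_eq_true_eq] at h1
  rw [← hX, ← hθ, ← hN] at h1
  rcases h1 with (h1 | h1) | h1
  · rw [← hθ] at hX2; exact h1 (Int.emod_eq_zero_of_dvd hX2)
  · exact h1 (Int.emod_eq_zero_of_dvd hX5)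
  have h2 := List.all_eq_true.1 h1 y' (List.mem_range.2 (by omega))
  simp only [Bool.or_eq_true, decide_eq_true_eq] at h2
  rw [← hY, ← hpt] at h2
  rcases h2 with ((h2 | h2) | h2) | h2
  · exact hpt0 h2
  · exact h2 (Int.emod_eq_zero_of_dvd hpt5)
  · exact h2 (Int.emod_eq_zero_of_dvd hY2)
  have h3 := List.all_eq_true.1 (List.all_eq_true.1 h2 t (mem_signs ht)) z'
    (List.mem_range.2 (by omega))
  simp only [Bool.or_eq_true, Bool.and_eq_true, decide_eq_true_eq] at h3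
  rw [← hZ, ← hΦ, ← hA, ← hV] at h3
  rcases h3 with h3 | (h3 | h3) | h3 | ⟨e1, e2⟩
  · exact h3 (Int.emod_eq_zero_of_dvd hZ3)
  · exact hΦ0 h3
  · exact h3 (Int.emod_eq_zero_of_dvd hΦd)
  · exact h3 (Int.emod_eq_zero_of_dvd hAN)
  obtain ⟨hL, hLg⟩ := lcm_facts hg hNg (Int.coe_lcm_dvd hθg (Int.coe_lcm_dvd hXg hptg))
  have hK : 0 < 2 + (k2 : ℤ) + k3 := by omega
  rcases hopt with ⟨a, b⟩ | ⟨a, b⟩
  · rw [noMult_false hK hL hLg b hgle hJ0 a hKg] at e1; exact Bool.false_ne_true e1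
  · rw [noMult_false hK hL hLg b hgle hJ0 a hKg] at e2; exact Bool.false_ne_true e2

theorem false_of_caseBAt {k3 : ℕ} (h : caseBAt k3 = true)
    {s x y g J V A N X Y Z θ Φ : ℤ}
    (hs : s = 1 ∨ s = -1) (hx : 1 ≤ x) (hx' : x ≤ 45) (hy : 1 ≤ y)
    (hy' : y ≤ 9 * (4 * (k3 : ℤ) + 1))
    (hN : N = 5 * 9 * (4 * (k3 : ℤ) + 1))
    (hX : X = (4 * (k3 : ℤ) + 1) * x) (hθ : θ = X - s)
    (hX2 : 9 ∣ X - s) (hX5 : 5 ∣ X - 2 * s)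
    (hY : Y = 5 * y) (hY3 : 4 * (k3 : ℤ) + 1 ∣ Y - s) (hY2 : 9 ∣ Y - 4 * s)
    (hZ : Z = 2 * Y - θ + s) (hZ0 : 0 < Z) (hZd : 5 * 9 ∣ Z)
    (hΦ : Φ = s + 2 * X - Y) (hΦ0 : Φ ≠ 0) (hΦd : 5 * (4 * (k3 : ℤ) + 1) ∣ Φ)
    (hA : A = θ + 2 * X + 2 * Y + k3 * Z + Φ)
    (hV : V = θ * θ + 2 * X * X + 2 * Y * Y + k3 * Z * Z + Φ * Φ)
    (hg : 0 < g) (hNg : N ∣ g) (hθg : θ ∣ g) (hXg : X ∣ g)
    (hgle : g ≤ 3 * N * N) (hJ0 : 0 ≤ J) (hKg : (4 + (k3 : ℤ)) * g ≤ J * J)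
    (hopt : (J ≤ A + 1 * N ∧ 2 * (1 + V) + 2 * N * N ≤ 2 * g) ∨
      (J ≤ A + 2 * N ∧ 2 * (1 + V) + 4 * N * N ≤ 2 * g)) : False := by
  obtain ⟨x', rfl⟩ := exists_nat_eq_succ hx
  obtain ⟨y', rfl⟩ := exists_nat_eq_succ hy
  have h1 := List.all_eq_true.1 (List.all_eq_true.1 h s (mem_signs hs)) x'
    (List.mem_range.2 (by omega))
  simp only [Bool.or_eq_true, decide_eq_true_eq] at h1
  rw [← hX, ← hθ, ← hN] at h1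
  rcases h1 with (h1 | h1) | h1
  · rw [← hθ] at hX2; exact h1 (Int.emod_eq_zero_of_dvd hX2)
  · exact h1 (Int.emod_eq_zero_of_dvd hX5)
  have h2 := List.all_eq_true.1 h1 y' (List.mem_range.2 (by omega))
  simp only [Bool.or_eq_true, Bool.and_eq_true, decide_eq_true_eq] at h2
  rw [← hY, ← hZ, ← hΦ, ← hA, ← hV] at h2
  rcases h2 with (h2 | h2) | (((h2 | h2) | h2) | h2) | ⟨e1, e2⟩
  · exact h2 (Int.emod_eq_zero_of_dvd hY3)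
  · exact h2 (Int.emod_eq_zero_of_dvd hY2)
  · omega
  · exact hΦ0 h2
  · exact h2 (Int.emod_eq_zero_of_dvd hZd)
  · exact h2 (Int.emod_eq_zero_of_dvd hΦd)
  obtain ⟨hL, hLg⟩ := lcm_facts hg hNg (Int.coe_lcm_dvd hθg hXg)
  have hK : 0 < 4 + (k3 : ℤ) := by omega
  rcases hopt with ⟨a, b⟩ | ⟨a, b⟩
  · rw [noMult_false hK hL hLg b hgle hJ0 a hKg] at e1; exact Bool.false_ne_true e1
  · rw [noMult_false hK hL hLg b hgle hJ0 a hKg] at e2; exact Bool.false_ne_true e2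

end CfsgLib.SuzSelfCent
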