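import Cfsg.Agent.Lib.SuzSelfCent.Bound
import Cfsg.Agent.Lib.SuzSelfCent.Search

/-!
# The case in which the first family vanishes on the other two subgroups
-/

set_option autoImplicit false

namespace CfsgLib.SuzSelfCent

universe u

variable {ι : Type u} [DecidableEq ι] (D : Dat ι)

namespace Dat

/-- The common hypotheses. -/
structure Base (θ : ι) (s : ℤ) : Prop where
  mem : θ ∈ D.W
  sign : s = 1 ∨ s = -1
  c1θ : D.c1 θ = s
  νθ : D.ν θ = 1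
  σ1 : D.σ1 = -s
  c1z : ∀ χ ∈ D.W, χ ≠ θ → D.c1 χ = 0
  d12 : D.d12 = 0
  d13 : D.d13 = 0
  X_eq : D.X = D.deg θ + s
  c2θ : D.c2 θ = D.d21 - s
  c3θ : D.c3 θ = D.d31 - s

theorem exists_base : ∃ θ s, D.Base θ s := by
  obtain ⟨θ, h1, s, h2, h3, h4, h5, h6, h7, h8, h9, h10, h11⟩ := D.first
  exact ⟨θ, s, h1, h2, h3, h4, h5, h6, h7, h8, h9, h10, h11⟩

variable {D} {θ : ι} {s : ℤ}

theorem Base.swap (B : D.Base θ s) : D.swap.Base θ s :=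
  ⟨B.mem, B.sign, B.c1θ, B.νθ, B.σ1, B.c1z, B.d13, B.d12, B.X_eq, B.c3θ, B.c2θ⟩

theorem Base.sum (B : D.Base θ s) (f : ι → ℤ) :
    ∑ χ ∈ D.U, f χ = f D.one + f θ + ∑ χ ∈ D.W.erase θ, f χ := by
  rw [D.sumU, ← Finset.add_sum_erase D.W f B.mem, add_assoc]

theorem Base.budget2 (B : D.Base θ s) :
    (D.d21 - s) ^ 2 + ∑ χ ∈ D.W.erase θ, D.c2 χ ^ 2 + D.k1 * D.d21 ^ 2 + D.k3 * D.d23 ^ 2 + D.q2
      = 3 := by
  have h := D.norm2
  rw [B.sum, D.c2_one, B.c2θ] at h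
  linear_combination h

theorem Base.budget3 (B : D.Base θ s) :
    (D.d31 - s) ^ 2 + ∑ χ ∈ D.W.erase θ, D.c3 χ ^ 2 + D.k1 * D.d31 ^ 2 + D.k2 * D.d32 ^ 2 + D.q3
      = 3 :=
  B.swap.budget2

theorem Base.orth (B : D.Base θ s) :
    1 + (D.d21 - s) * (D.d31 - s) + ∑ χ ∈ D.W.erase θ, D.c2 χ * D.c3 χ + D.σ2 * D.d32 +
      D.σ3 * D.d23 + D.k1 * D.d21 * D.d31 = 0 := by
  have h := D.orth23
  rw [B.sum, D.c2_one, D.c3_one, B.c2θ, B.c3θ] at h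
  linear_combination h

theorem Base.fs2' (B : D.Base θ s) :
    1 + (D.d21 - s) + ∑ χ ∈ D.W.erase θ, D.ν χ * D.c2 χ + D.σ2 + D.k1 * D.d21 + D.k3 * D.d23
      = 1 := by
  have h := D.fs2
  rw [B.sum, D.c2_one, D.ν_one, B.c2θ, B.νθ] at h
  linear_combination h

theorem Base.fs3' (B : D.Base θ s) :
    1 + (D.d31 - s) + ∑ χ ∈ D.W.erase θ, D.ν χ * D.c3 χ + D.σ3 + D.k1 * D.d31 + D.k2 * D.d32
      = 1 :=
  B.swap.fs2'

theorem Base.dega2' (B : D.Base θ s) :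
    1 + (D.d21 - s) * D.deg θ + ∑ χ ∈ D.W.erase θ, D.c2 χ * D.deg χ + D.σ2 * D.Y +
      D.k1 * D.d21 * D.X + D.k3 * D.d23 * D.Z = 0 := by
  have h := D.dega2
  rw [B.sum, D.c2_one, D.deg_one, B.c2θ] at h
  linear_combination h

theorem Base.dega3' (B : D.Base θ s) :
    1 + (D.d31 - s) * D.deg θ + ∑ χ ∈ D.W.erase θ, D.c3 χ * D.deg χ + D.σ3 * D.Z +
      D.k1 * D.d31 * D.X + D.k2 * D.d32 * D.Y = 0 :=
  B.swap.dega2'

theorem sign_sq {s : ℤ} (h : s = 1 ∨ s = -1) : s * s = 1 := by rcases h with rfl | rfl <;> rfl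

theorem Base.sq (B : D.Base θ s) : s * s = 1 := sign_sq B.sign

theorem dvd_sub_sign {n a b : ℤ} (h : n ∣ a) (hb : b = 0) : n ∣ a - b := by simpa [hb] using h

/-- The exceptional family of the third subgroup vanishes on the second. -/
theorem Base.d23_zero (B : D.Base θ s) (h2 : D.d21 = 0) (h3 : D.d31 = 0) : D.d23 = 0 := by
  by_contra hne
  have hs := B.sq
  have b2 := B.budget2
  have b3 := B.budget3
  rw [h2] at b2
  rw [h3] at b3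
  have hS2 : 0 ≤ ∑ χ ∈ D.W.erase θ, D.c2 χ ^ 2 := Finset.sum_nonneg fun _ _ => sq_nonneg _
  have hS3 : 0 ≤ ∑ χ ∈ D.W.erase θ, D.c3 χ ^ 2 := Finset.sum_nonneg fun _ _ => sq_nonneg _
  have n2 := D.num2
  have n3 := D.num3
  have hd : 1 ≤ D.d23 ^ 2 := by nlinarith [Int.one_le_abs hne, sq_abs D.d23]
  have hprod : D.k3 ≤ D.k3 * D.d23 ^ 2 := by nlinarith [n3.two_le]
  have e1 : D.k3 * D.d23 ^ 2 = 2 := by nlinarith [n2.q_nonneg, n3.two_le]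
  have ek3 : D.k3 = 2 := by nlinarith [n2.q_nonneg, n3.two_le]
  have ed : D.d23 ^ 2 = 1 := by rw [ek3] at e1; omega
  have hz : ∀ χ ∈ D.W.erase θ, D.c2 χ = 0 :=
    sq_sum_zero (le_antisymm (by nlinarith [n2.q_nonneg]) hS2)
  have hq2 : D.q2 = 0 := by nlinarith [n2.q_nonneg]
  have hσ2 := n2.q_zero hq2
  have hd23 : D.d23 = 1 ∨ D.d23 = -1 := sq_eq_one_iff.1 ed
  have hf := B.fs2'
  rw [Finset.sum_eq_zero (s := D.W.erase θ) (fun χ hχ => by rw [hz χ hχ, mul_zero]), h2, ek3] at hf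
  have key : D.d23 = s ∧ D.σ2 = -s := by
    rcases B.sign with e | e <;> rcases hσ2 with e' | e' <;> rcases hd23 with e'' | e'' <;>
      rw [e, e', e''] at hf <;> omega
  have ho := B.orth
  rw [Finset.sum_eq_zero (s := D.W.erase θ) (fun χ hχ => by rw [hz χ hχ, zero_mul]), h2, h3,
    key.1, key.2] at ho
  have hd32 : D.d32 = 0 := by
    by_contra h32
    have h1 : 1 ≤ D.d32 ^ 2 := by nlinarith [Int.one_le_abs h32, sq_abs D.d32]
    have ek2 : D.k2 = 2 := by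
      have : D.k2 ≤ D.k2 * D.d32 ^ 2 := by nlinarith [n2.two_le]
      nlinarith [n3.q_nonneg, n2.two_le]
    have := D.cop23
    rw [ek2, ek3, isCoprime_self, Int.isUnit_iff] at this
    omega
  rw [hd32] at ho b3
  have hσ3 : D.σ3 = 2 ∨ D.σ3 = -2 := by
    rcases B.sign with e | e <;> rw [e] at ho <;> omega
  have := n3.q_small (by nlinarith) hσ3
  omega

/-- The families of the second and third subgroup vanish on each other, and two characters are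
left. -/
theorem Base.main_struct (B : D.Base θ s) (h2 : D.d21 = 0) (h3 : D.d31 = 0) :
    D.d23 = 0 ∧ D.d32 = 0 ∧ D.σ2 = s ∧ D.σ3 = s ∧
    ∃ ψ ∈ D.W.erase θ, ∃ ψ' ∈ D.W.erase θ, ψ' ≠ ψ ∧
      (∀ χ ∈ D.W, χ ∉ ({θ, ψ, ψ'} : Finset ι) → D.c1 χ = 0 ∧ D.c2 χ = 0 ∧ D.c3 χ = 0) ∧
      D.ν ψ * D.c2 ψ + D.ν ψ' * D.c2 ψ' = 0 ∧ D.c3 ψ = -D.c2 ψ ∧ D.c3 ψ' = -D.c2 ψ' ∧
      D.Y + D.Z = 2 * (D.deg θ - s) := by
  have d23 := B.d23_zero h2 h3
  have d32 : D.d32 = 0 := B.swap.d23_zero h3 h2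
  have hs := B.sq
  have b2 := B.budget2
  have b3 := B.budget3
  rw [h2, d23] at b2
  rw [h3, d32] at b3
  have ho := B.orth
  rw [h2, h3, d23, d32] at ho
  have hmul := abs_sum_mul_le (D.W.erase θ) D.c2 D.c3
  rw [show ∑ χ ∈ D.W.erase θ, D.c2 χ * D.c3 χ = -2 by nlinarith] at hmul
  norm_num at hmul
  have hq2 : D.q2 = 0 := by nlinarith [D.num2.q_nonneg, D.num3.q_nonneg]
  have hq3 : D.q3 = 0 := by nlinarith [D.num2.q_nonneg, D.num3.q_nonneg]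
  have hS2 : ∑ χ ∈ D.W.erase θ, D.c2 χ ^ 2 = 2 := by nlinarith
  have hS3 : ∑ χ ∈ D.W.erase θ, D.c3 χ ^ 2 = 2 := by nlinarith
  have hsum : ∑ χ ∈ D.W.erase θ, (D.c2 χ + D.c3 χ) ^ 2 = 0 := by
    simp only [add_sq, Finset.sum_add_distrib, mul_assoc, ← Finset.mul_sum, hS2, hS3]
    linarith
  have hneg : ∀ χ ∈ D.W.erase θ, D.c3 χ = -D.c2 χ := fun χ hχ => by
    have := sq_sum_zero hsum χ hχ
    omega
  obtain ⟨ψ, hψ, hv, hr⟩ := sq_sum_pick hS2 (by norm_num) (by norm_num)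
  obtain ⟨ψ', hψ', hv', hr'⟩ := sq_sum_pick hr (by norm_num) (by norm_num)
  have hne : ψ' ≠ ψ := Finset.ne_of_mem_erase hψ'
  have hψ'W := Finset.mem_of_mem_erase hψ'
  have hz : ∀ χ ∈ (D.W.erase θ).erase ψ, χ ≠ ψ' → D.c2 χ = 0 := fun χ hχ h =>
    sq_sum_zero (by simpa using hr') χ (Finset.mem_erase.2 ⟨h, hχ⟩)
  have hpair : ∀ f : ι → ℤ, ∑ χ ∈ D.W.erase θ, D.c2 χ * f χ = D.c2 ψ * f ψ + D.c2 ψ' * f ψ' :=
    fun f => by
      rw [← Finset.add_sum_erase _ _ hψ, Finset.sum_eq_single_of_mem ψ' hψ'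
        (fun χ hχ h => by rw [hz χ hχ h, zero_mul])]
  have f2 := B.fs2'
  rw [h2, d23, Finset.sum_congr rfl (fun χ _ => mul_comm (D.ν χ) (D.c2 χ)), hpair] at f2
  have f3 := B.fs3'
  rw [h3, d32, Finset.sum_congr rfl (fun χ hχ => show D.ν χ * D.c3 χ = -(D.c2 χ * D.ν χ) by
    rw [hneg χ hχ]; ring), Finset.sum_neg_distrib, hpair] at f3
  have g2 := B.dega2'
  rw [h2, d23, hpair] at g2
  have g3 := B.dega3'
  rw [h3, d32, Finset.sum_congr rfl (fun χ hχ => show D.c3 χ * D.deg χ = -(D.c2 χ * D.deg χ) by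
    rw [hneg χ hχ]; ring), Finset.sum_neg_distrib, hpair] at g3
  have e2 := D.num2.q_zero hq2
  have e3 := D.num3.q_zero hq3
  have hσ : D.σ2 = s ∧ D.σ3 = s := by
    rcases B.sign with e | e <;> rcases e2 with e' | e' <;> rcases e3 with e'' | e'' <;>
      rw [e, e'] at f2 <;> rw [e, e''] at f3 <;> refine ⟨?_, ?_⟩ <;> linarith
  obtain ⟨σ2e, σ3e⟩ := hσ
  rw [σ2e] at f2 g2
  rw [σ3e] at g3
  refine ⟨d23, d32, σ2e, σ3e, ψ, hψ, ψ', hψ'W, hne, ?_, by linarith, hneg ψ hψ,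
    hneg ψ' hψ'W, ?_⟩
  · intro χ hχ hχT
    simp only [Finset.mem_insert, Finset.mem_singleton, not_or] at hχT
    obtain ⟨n1, n2, n3⟩ := hχT
    have hχ' : χ ∈ D.W.erase θ := Finset.mem_erase.2 ⟨n1, hχ⟩
    have h0 := hz χ (Finset.mem_erase.2 ⟨n2, hχ'⟩) n3
    exact ⟨B.c1z χ hχ n1, h0, by rw [hneg χ hχ', h0, neg_zero]⟩
  · rcases B.sign with e | e <;> rw [e] at g2 g3 ⊢ <;> linarith

theorem sum_three (f : ι → ℤ) {a b c : ι} (hab : a ≠ b) (hac : a ≠ c) (hbc : b ≠ c) :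
    ∑ χ ∈ ({a, b, c} : Finset ι), f χ = f a + (f b + f c) := by
  rw [Finset.sum_insert (by simp [hab, hac]), Finset.sum_pair hbc]

/-- The main case: four characters. -/
theorem Base.main (B : D.Base θ s) (h2 : D.d21 = 0) (h3 : D.d31 = 0) : D.U.card ≤ 4 := by
  obtain ⟨d23, d32, hσ2, hσ3, ψ, hψ, ψ', hψ', hne, hR, hP, hcψ, hcψ', hYZ⟩ :=
    B.main_struct h2 h3
  have hψW := Finset.mem_of_mem_erase hψ
  have hψ'W := Finset.mem_of_mem_erase hψ'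
  have n1 : θ ≠ ψ := (Finset.ne_of_mem_erase hψ).symm
  have n2 : θ ≠ ψ' := (Finset.ne_of_mem_erase hψ').symm
  have hT : ({θ, ψ, ψ'} : Finset ι) ⊆ D.W := by
    simp [Finset.insert_subset_iff, B.mem, hψW, hψ'W]
  have hT3 : ({θ, ψ, ψ'} : Finset ι).card ≤ 3 := Finset.card_le_three
  rcases D.rest _ hT hT3 hR with h | ⟨r, hr, -, hJ, hg, hK⟩
  · omega
  exfalso
  simp only [sum_three _ n1 n2 hne.symm, B.νθ, one_mul] at hJ hg
  set N := D.N with hN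
  have hNpos := D.N_pos
  -- the modulus of `ψ` and `ψ'`
  set P := D.ν ψ * D.deg ψ + D.ν ψ' * D.deg ψ' with hPdef
  have m1 : 2 * D.k1 + 1 ∣ P := by
    have a := D.cong1 ψ (D.mem_U hψW)
    have b := D.cong1 ψ' (D.mem_U hψ'W)
    rw [B.c1z ψ hψW n1.symm, sub_zero] at a
    rw [B.c1z ψ' hψ'W n2.symm, sub_zero] at b
    exact dvd_add (dvd_mul_of_dvd_right a _) (dvd_mul_of_dvd_right b _)
  have m2 : 4 * D.k2 + 1 ∣ P := by
    rw [show P = D.ν ψ * (D.deg ψ - D.c2 ψ) + D.ν ψ' * (D.deg ψ' - D.c2 ψ') +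
      (D.ν ψ * D.c2 ψ + D.ν ψ' * D.c2 ψ') by ring, hP, add_zero]
    exact dvd_add (dvd_mul_of_dvd_right (D.cong2 ψ (D.mem_U hψW)) _)
      (dvd_mul_of_dvd_right (D.cong2 ψ' (D.mem_U hψ'W)) _)
  have m3 : 4 * D.k3 + 1 ∣ P := by
    rw [show P = D.ν ψ * (D.deg ψ - -D.c2 ψ) + D.ν ψ' * (D.deg ψ' - -D.c2 ψ') -
      (D.ν ψ * D.c2 ψ + D.ν ψ' * D.c2 ψ') by ring, hP, sub_zero, ← hcψ, ← hcψ']
    exact dvd_add (dvd_mul_of_dvd_right (D.cong3 ψ (D.mem_U hψW)) _)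
      (dvd_mul_of_dvd_right (D.cong3 ψ' (D.mem_U hψ'W)) _)
  obtain ⟨p, hp⟩ : N ∣ P := (D.cop13.mul_left D.cop23).mul_dvd (D.cop12.mul_dvd m1 m2) m3
  have hP2 : P ^ 2 ≤ 2 * (D.deg ψ ^ 2 + D.deg ψ' ^ 2) := by
    rcases D.ν_cases ψ (D.mem_U hψW) with e | e | e <;>
      rcases D.ν_cases ψ' (D.mem_U hψ'W) with e' | e' | e' <;> rw [hPdef, e, e'] <;>
        nlinarith [sq_nonneg (D.deg ψ - D.deg ψ'), sq_nonneg (D.deg ψ + D.deg ψ'),
          sq_nonneg (D.deg ψ), sq_nonneg (D.deg ψ')]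
  rw [hp] at hP2
  -- the indices as natural numbers
  have hk1 := D.num1.two_le
  have hk2 := D.num2.two_le
  have hk3 := D.num3.two_le
  obtain ⟨a, ha⟩ := Int.eq_ofNat_of_zero_le (by omega : 0 ≤ D.k1)
  obtain ⟨b, hb⟩ := Int.eq_ofNat_of_zero_le (by omega : 0 ≤ D.k2)
  obtain ⟨c, hc⟩ := Int.eq_ofNat_of_zero_le (by omega : 0 ≤ D.k3)
  have hcop : Nat.Coprime (2 * a + 1) (4 * b + 1) ∧ Nat.Coprime (2 * a + 1) (4 * c + 1) ∧
      Nat.Coprime (4 * b + 1) (4 * c + 1) := by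
    simp only [← Nat.isCoprime_iff_coprime]
    push_cast
    rw [← ha, ← hb, ← hc]
    exact ⟨D.cop12, D.cop13, D.cop23⟩
  obtain ⟨hm, -⟩ := chk_at (by omega : 2 ≤ a) (by omega : 2 ≤ b) (by omega : 2 ≤ c) (by omega)
    hcop.1 hcop.2.1 hcop.2.2
  -- the degrees
  obtain ⟨x, hx⟩ : (4 * D.k2 + 1) * (4 * D.k3 + 1) ∣ D.X := by
    refine D.cop23.mul_dvd ?_ ?_
    · simpa [h2] using D.congX2
    · simpa [h3] using D.congX3
  obtain ⟨y, hy⟩ : (2 * D.k1 + 1) * (4 * D.k3 + 1) ∣ D.Y := by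
    refine D.cop13.mul_dvd ?_ ?_
    · simpa [B.d12] using D.congY1
    · simpa [d32] using D.congY3
  have hZd : (2 * D.k1 + 1) * (4 * D.k2 + 1) ∣ D.Z := by
    refine D.cop12.mul_dvd ?_ ?_
    · simpa [B.d13] using D.congZ1
    · simpa [d23] using D.congZ2
  have hg3 := D.g_le'
  rw [← hN] at hg3
  have hV0 : 0 ≤ D.deg θ ^ 2 + D.k2 * D.Y ^ 2 + D.k3 * D.Z ^ 2 := by positivity
  have hX2 : 2 * (D.X * D.X) ≤ 2 * (N * N) := by
    rcases hr with e | e <;> rw [e] at hg <;>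
      nlinarith [mul_nonneg (by omega : 0 ≤ D.k1 - 2) (sq_nonneg D.X), sq_nonneg (D.deg ψ),
        sq_nonneg (D.deg ψ')]
  have hXN : D.X ≤ N := by nlinarith [D.X_pos]
  have h23 : 0 < (4 * D.k2 + 1) * (4 * D.k3 + 1) := mul_pos (by omega) (by omega)
  have hx1 : 1 ≤ x := pos_of_mul_pos_right (hx ▸ D.X_pos) h23.le
  have hx' : x ≤ 2 * D.k1 + 1 := by
    refine le_of_mul_le_mul_left ?_ h23
    rw [← hx]
    exact hXN.trans_eq (by rw [hN, Dat.N]; ring)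
  have hy1 : 1 ≤ y :=
    pos_of_mul_pos_right (hy ▸ D.Y_pos) (mul_nonneg (by omega) (by omega))
  have hy' : y * (2 * D.k1 + 1) ≤ 2 * (4 * D.k2 + 1) * x := by
    have h1 : D.Y < 2 * (D.deg θ - s) := by linarith [D.Z_pos]
    rw [hy, show D.deg θ = D.X - s by linarith [B.X_eq], hx] at h1
    have : y * (2 * D.k1 + 1) < 2 * (4 * D.k2 + 1) * x + 1 := by
      refine lt_of_mul_lt_mul_right ?_ (by omega : 0 ≤ 4 * D.k3 + 1)
      rcases B.sign with e | e <;> rw [e] at h1 <;> nlinarith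
    omega
  have hJsq := D.J_sq
  rw [ha, hb, hc] at hJsq
  have hgpos : 0 < D.g := by
    rw [D.order']
    have h0 : 0 ≤ ∑ χ ∈ D.W, D.deg χ ^ 2 := Finset.sum_nonneg fun _ _ => sq_nonneg _
    positivity
  refine false_of_mainAt hm B.sign hx1 (by omega) hy1 (by rw [ha, hb] at hy'; exact hy')
    (g := D.g) (J := D.J) rfl rfl rfl rfl rfl ?_ ?_ ?_ rfl rfl (by omega) hgpos ?_ ?_ ?_ ?_
    D.J_nonneg hJsq ?_
  all_goals simp only [← ha, ← hb, ← hc, ← hx, ← hy]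
  · rw [show D.X - s - s = D.deg θ - D.c1 θ by rw [B.c1θ]; linarith [B.X_eq]]
    exact D.cong1 θ (D.mem_U B.mem)
  · rw [show D.X - s = D.deg θ by linarith [B.X_eq]]; linarith [D.Z_pos]
  · rw [show 2 * (D.X - s - s) - D.Y = D.Z by linarith [B.X_eq]]; exact hZd
  · exact D.N_dvd
  · rw [show D.X - s = D.deg θ by linarith [B.X_eq]]; exact D.dvd_g θ (D.mem_U B.mem)
  · exact D.X_dvd
  · exact hg3
  · rw [show D.X - s = D.deg θ by linarith [B.X_eq], show 2 * (D.deg θ - s) - D.Y = D.Z by linarith]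
    change _ ∨ _ ∨ _
    rw [show (2 * D.k1 + 1) * (4 * D.k2 + 1) * (4 * D.k3 + 1) = N from rfl]
    have hJ' : D.J ≤ D.deg θ + D.k1 * D.X + D.k2 * D.Y + D.k3 * D.Z + (p + r) * N := by
      rw [hPdef] at hp
      linarith
    have hg' : 2 * (1 + (D.deg θ * D.deg θ + D.k1 * D.X * D.X + D.k2 * D.Y * D.Y +
        D.k3 * D.Z * D.Z)) + (p ^ 2 + 2 * r) * (N * N) ≤ 2 * D.g := by nlinarith
    have hlt : p ^ 2 + 2 * r < 6 := by
      by_contra hcon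
      push Not at hcon
      nlinarith [mul_le_mul_of_nonneg_right hcon (mul_nonneg hNpos.le hNpos.le),
        mul_nonneg (mul_nonneg (by omega : 0 ≤ D.k1) D.X_pos.le) D.X_pos.le]
    have hp1 : -1 ≤ p ∧ p ≤ 1 := by
      rcases hr with e | e <;> rw [e] at hlt <;> constructor <;> nlinarith
    obtain ⟨hp1, hp1'⟩ := hp1
    interval_cases p <;> rcases hr with e | e <;> rw [e] at hJ' hg' hlt <;>
      first
      | exact Or.inl ⟨by linarith, by linarith⟩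
      | exact Or.inr (Or.inl ⟨by linarith, by linarith⟩)
      | exact Or.inr (Or.inr ⟨by linarith, by linarith⟩)

end Dat

end CfsgLib.SuzSelfCent
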