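import Cfsg.Agent.Lib.SuzSelfCent.Family
import Cfsg.Agent.Lib.Indicator.Count

/-!
# Several pairwise non-conjugate strongly self-centralizing subgroups
-/

set_option autoImplicit false
set_option linter.style.haveILetI false

noncomputable section

namespace CfsgLib.SuzSelfCent

open Cfsg CfsgLib.Characters CfsgLib.FrobKernelChar CfsgLib.InvChar
open scoped ComplexConjugate

universe u

variable {G : Type u} [Group G] [Fintype G]

/-- A strongly self-centralizing subgroup with its exceptional family. -/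
structure Tor (G : Type u) [Group G] [Fintype G] where
  /-- the subgroup -/
  A : Subgroup G
  hsc : SC A
  /-- the index in the normalizer -/
  e : ℕ
  /-- the number of exceptional characters -/
  k : ℕ
  he : 2 ∣ e
  he0 : 0 < e
  hk : 2 ≤ k
  hA : Nat.card ↥A = e * k + 1
  hrel : A.relIndex (Subgroup.normalizer (A : Set G)) = e
  /-- the family -/
  F : Fam A e k

theorem card_normalizer {A : Subgroup G} {e : ℕ}
    (hrel : A.relIndex (Subgroup.normalizer (A : Set G)) = e) :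
    Nat.card ↥(Subgroup.normalizer (A : Set G)) = e * Nat.card ↥A := by
  rw [← Subgroup.card_mul_index (A.subgroupOf (Subgroup.normalizer (A : Set G))),
    Nat.card_congr (Subgroup.subgroupOfEquivOfLe (Subgroup.le_normalizer (H := A))).toEquiv,
    mul_comm]
  exact congrArg (· * Nat.card ↥A) hrel

/-- Build the data from the subgroup. -/
theorem exists_tor (A : Subgroup G) (hsc : SC A) {e : ℕ} (he : 2 ∣ e) (he0 : 0 < e)
    (hrel : A.relIndex (Subgroup.normalizer (A : Set G)) = e) (hbig : e + 1 < Nat.card ↥A) :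
    ∃ T : Tor G, T.A = A ∧ T.e = e := by
  classical
  let KN := A.subgroupOf (Subgroup.normalizer (A : Set G))
  haveI : Fintype ↥(Subgroup.normalizer (A : Set G)) := Fintype.ofFinite _
  haveI : KN.Normal := Subgroup.normal_in_normalizer
  have hab : ∀ a ∈ A, ∀ b ∈ A, a * b = b * a := fun a ha b hb => hsc.commute ha hb
  have hidx : KN.index = e := hrel
  have h := sum_sq_degrees (G := ↥(Subgroup.normalizer (A : Set G)))
  simp only [sq] at h
  have hdeg : ∀ η ∈ relSet KN, (η : ↥(Subgroup.normalizer (A : Set G)) → ℂ) 1 = (e : ℂ) := by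
    intro η hη
    rw [CfsgLib.TIFNChar.degree_eq_index hsc.hC hab (mem_relSet.1 hη)]
    exact_mod_cast hidx
  rw [← Finset.sum_add_sum_compl (relSet KN), sum_sq_irrelevant, hidx,
    Finset.sum_congr rfl (fun η hη => by rw [hdeg η hη]), Finset.sum_const, nsmul_eq_mul,
    card_normalizer hrel] at h
  have h' : (relSet KN).card * (e * e) + e = e * Nat.card ↥A := by exact_mod_cast h
  have hA : Nat.card ↥A = e * (relSet KN).card + 1 :=
    Nat.eq_of_mul_eq_mul_left he0 (by rw [← h']; ring)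
  have hk : 2 ≤ (relSet KN).card := by
    by_contra hlt
    have : e * (relSet KN).card ≤ e * 1 := Nat.mul_le_mul_left e (by omega)
    omega
  obtain ⟨F⟩ := exists_fam A hsc he he0 hk hA (card_normalizer hrel)
  exact ⟨⟨A, hsc, e, _, he, he0, hk, hA, hrel, F⟩, rfl, rfl⟩

/-- Two subgroups are not conjugate. -/
def Apart (T T' : Tor G) : Prop := ∀ g : G, T.A.map (MulAut.conj g).toMonoidHom ≠ T'.A

namespace Tor

variable (T T' T'' : Tor G)

theorem ne_bot : T.A ≠ ⊥ := by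
  intro h
  have h1 := T.hA
  rw [h, Subgroup.card_bot] at h1
  have : 0 < T.e * T.k := Nat.mul_pos T.he0 (by linarith [T.hk])
  omega

theorem odd : Odd (Nat.card ↥T.A) := by
  rw [T.hA]
  exact ((even_iff_two_dvd.2 T.he).mul_right _).add_one

theorem E_nonempty : T.F.E.Nonempty := Finset.card_pos.1 (by rw [T.F.card_E]; linarith [T.hk])

/-- A member of the family. -/
def rep : IrrCharacter G := T.E_nonempty.choose

theorem rep_mem : T.rep ∈ T.F.E := T.E_nonempty.choose_spec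

/-- The constant value of the family of `T'` on `T`. -/
def d : ℤ := T.F.c T'.rep

/-- The common degree of the family. -/
def deg : ℤ := charDegree (T.rep : G → ℂ)

/-- `σ = k c₀ - ε`. -/
def σ : ℤ := T.k * T.F.c₀ - T.F.ε

/-- `q = k c₀² - 2 ε c₀`. -/
def q : ℤ := T.k * T.F.c₀ ^ 2 - 2 * T.F.ε * T.F.c₀

theorem num : (2 : ℤ) ≤ T.k := by exact_mod_cast T.hk

theorem deg_eq {χ : IrrCharacter G} (h : χ ∈ T.F.E) :
    (charDegree (χ : G → ℂ) : ℤ) = T.deg := by
  have := T.F.agree χ h T.rep T.rep_mem 1 fun x _ => by simp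
  rw [← CfsgLib.Chars17.cast_irrDegree, ← CfsgLib.Chars17.cast_irrDegree] at this
  rw [Tor.deg]
  exact_mod_cast this

theorem exists_mem_ne_one : ∃ a ∈ T.A, a ≠ 1 := T.A.bot_or_exists_ne_one.resolve_left T.ne_bot

/-- A chosen nontrivial element. -/
def a : G := T.exists_mem_ne_one.choose

theorem a_mem : T.a ∈ T.A := T.exists_mem_ne_one.choose_spec.1

theorem a_ne : T.a ≠ 1 := T.exists_mem_ne_one.choose_spec.2

theorem card_centralizer {a : G} (ha : a ∈ T.A) (ha1 : a ≠ 1) :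
    Nat.card ↥(Subgroup.centralizer ({a} : Set G)) = T.e * T.k + 1 := by
  rw [T.hsc a ha ha1, T.hA]

variable {T T' T''}

theorem _root_.CfsgLib.SuzSelfCent.Apart.symm (h : Apart T T') : Apart T' T := fun g hg =>
  h g⁻¹ (by
    rw [← hg, Subgroup.map_map]
    convert Subgroup.map_id T'.A
    ext x
    simp [mul_assoc])

theorem _root_.CfsgLib.SuzSelfCent.Apart.not_mem (h : Apart T T') {a : G} (ha : a ∈ T.A)
    (ha1 : a ≠ 1) (g : G) : g * a * g⁻¹ ∉ T'.A := fun hm =>
  h g (T.hsc.map_eq T'.hsc ha ha1 hm)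

theorem _root_.CfsgLib.SuzSelfCent.Apart.avoid (h : Apart T T') {a : G} (ha : a ∈ T.A)
    (ha1 : a ≠ 1) (x : G) (hx : x⁻¹ * a * x ∈ T'.A) : x⁻¹ * a * x = 1 := by
  refine absurd ?_ (h.not_mem ha ha1 x⁻¹)
  simpa using hx

theorem _root_.CfsgLib.SuzSelfCent.Apart.not_isConj (h : Apart T T') {a b : G} (ha : a ∈ T.A)
    (ha1 : a ≠ 1) (hb : b ∈ T'.A) : ¬ IsConj a b := fun hc => by
  obtain ⟨g, hg⟩ := isConj_iff.1 hc
  exact h.not_mem ha ha1 g (hg ▸ hb)

theorem _root_.CfsgLib.SuzSelfCent.Apart.notMem_fam (h : Apart T T') {χ : IrrCharacter G}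
    (hχ : χ ∈ T'.F.E) : χ ∉ T.F.E := by
  intro hT
  obtain ⟨x, hx, y, hy, hx1, hy1, hne⟩ := T.F.nonconst χ hT
  obtain ⟨ψ, hψ, hψne⟩ : ∃ ψ ∈ T'.F.E, ψ ≠ χ := by
    obtain ⟨a, ha, b, hb, hab⟩ := Finset.one_lt_card.1 (by rw [T'.F.card_E]; exact T'.hk :
      1 < T'.F.E.card)
    by_cases hc : a = χ
    · exact ⟨b, hb, fun e => hab (hc.trans e.symm)⟩
    · exact ⟨a, ha, hc⟩
  have heq : ∀ z ∈ T.A, z ≠ 1 → (χ : G → ℂ) z = (ψ : G → ℂ) z := fun z hz hz1 =>
    T'.F.agree χ hχ ψ hψ z (h.avoid hz hz1)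
  by_cases hψT : ψ ∈ T.F.E
  · obtain ⟨z, hz, hz1, hne'⟩ := T.F.separated χ hT ψ hψT hψne.symm
    exact hne' (heq z hz hz1)
  · exact hne (by rw [heq x hx hx1, heq y hy hy1, T.F.val ψ hψT x hx hx1, T.F.val ψ hψT y hy hy1])

theorem _root_.CfsgLib.SuzSelfCent.Apart.c_eq (h : Apart T T') {χ : IrrCharacter G}
    (hχ : χ ∈ T'.F.E) : T.F.c χ = T.d T' := by
  have e := T'.F.agree χ hχ T'.rep T'.rep_mem T.a (h.avoid T.a_mem T.a_ne)
  rw [T.F.val χ (h.notMem_fam hχ) _ T.a_mem T.a_ne,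
    T.F.val _ (h.notMem_fam T'.rep_mem) _ T.a_mem T.a_ne] at e
  exact_mod_cast e

theorem sum_const {f : IrrCharacter G → ℂ} {c : ℂ} (h : ∀ χ ∈ T.F.E, f χ = c) :
    ∑ χ ∈ T.F.E, f χ = (T.k : ℂ) * c := by
  rw [Finset.sum_congr rfl h, Finset.sum_const, T.F.card_E, nsmul_eq_mul]

theorem _root_.CfsgLib.SuzSelfCent.Apart.val_eq (h : Apart T T') {χ : IrrCharacter G}
    (hχ : χ ∈ T'.F.E) {a : G} (ha : a ∈ T.A) (ha1 : a ≠ 1) : (χ : G → ℂ) a = (T.d T' : ℂ) := by
  rw [T.F.val χ (h.notMem_fam hχ) a ha ha1, h.c_eq hχ]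

variable (T)

theorem card_sqrt {a : G} (ha : a ∈ T.A) (ha1 : a ≠ 1) : Nat.card {s : G // s * s = a} = 1 := by
  obtain ⟨j, hj⟩ := T.odd
  have hmem : ∀ s : G, s * s = a → s ∈ T.A := fun s hs =>
    T.hsc.mem_of_commute ha ha1 (by rw [← hs, mul_assoc])
  have hpow : ∀ s ∈ T.A, (s * s) ^ (j + 1) = s := fun s hs => by
    rw [← pow_two, ← pow_mul, show 2 * (j + 1) = 2 * j + 1 + 1 by ring, pow_succ, ← hj]
    have := pow_card_eq_one' (G := ↥T.A) (x := ⟨s, hs⟩)
    rw [show s ^ Nat.card ↥T.A = 1 from congrArg Subtype.val this, one_mul]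
  rw [Nat.card_eq_one_iff_exists]
  refine ⟨⟨a ^ (j + 1), ?_⟩, fun s => Subtype.ext ?_⟩
  · rw [← pow_add, show j + 1 + (j + 1) = 2 * j + 1 + 1 by ring, pow_succ, ← hj]
    have := pow_card_eq_one' (G := ↥T.A) (x := ⟨a, ha⟩)
    rw [show a ^ Nat.card ↥T.A = 1 from congrArg Subtype.val this, one_mul]
  · show (s : G) = a ^ (j + 1)
    rw [← hpow s (hmem s s.2), s.2]

theorem card_dvd_involutions : Nat.card ↥T.A ∣ Nat.card {x : G // orderOf x = 2} := by
  letI : MulAction ↥T.A {x : G // orderOf x = 2} :=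
    { smul := fun b x => ⟨(b : G) * x * (b : G)⁻¹, by
        rw [← MulAut.conj_apply, MulEquiv.orderOf_eq]; exact x.2⟩
      one_smul := fun x => Subtype.ext (by
        show ((1 : ↥T.A) : G) * x * ((1 : ↥T.A) : G)⁻¹ = x
        simp)
      mul_smul := fun b c x => Subtype.ext (by
        show ((b * c : ↥T.A) : G) * x * ((b * c : ↥T.A) : G)⁻¹ =
          (b : G) * ((c : G) * x * (c : G)⁻¹) * (b : G)⁻¹
        simp [mul_assoc]) }
  have hfree : ∀ x : {x : G // orderOf x = 2}, MulAction.stabilizer ↥T.A x = ⊥ := by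
    intro x
    rw [Subgroup.eq_bot_iff_forall]
    intro b hb
    by_contra hb1
    have hb2 : (b : G) * x * (b : G)⁻¹ = x := congrArg Subtype.val hb
    have hxA : (x : G) ∈ T.A := T.hsc.mem_of_commute b.2
      (fun e => hb1 (Subtype.ext e)) (mul_inv_eq_iff_eq_mul.1 hb2).symm
    have h2 : orderOf (⟨x, hxA⟩ : ↥T.A) ∣ Nat.card ↥T.A := orderOf_dvd_natCard _
    rw [Subgroup.orderOf_mk, x.2] at h2
    exact Nat.not_even_iff_odd.2 T.odd (even_iff_two_dvd.2 h2)
  rw [Nat.card_congr (MulAction.selfEquivOrbitsQuotientProd hfree), Nat.card_prod]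
  exact dvd_mul_left _ _

open scoped Classical in
/-- The nontrivial elements conjugate into the subgroup. -/
def cls : Finset G := Finset.univ.filter fun u => u ≠ 1 ∧ ∃ g : G, g⁻¹ * u * g ∈ T.A

theorem mem_cls {u : G} : u ∈ T.cls ↔ u ≠ 1 ∧ ∃ g : G, g⁻¹ * u * g ∈ T.A := by
  classical simp [cls]

theorem le_invPairs {u : G} (hu : u ∈ T.cls) : Nat.card ↥T.A ≤ (invPairs u).card := by
  classical
  obtain ⟨hu1, g, hg⟩ := T.mem_cls.1 hu
  obtain ⟨t, htN, ho, htA, -⟩ :=
    T.hsc.exists_involution (by rw [T.hrel]; exact T.he)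
  have hinv := T.hsc.inverts htN htA ho
  have ht2 : t * t = 1 := by rw [← pow_two, ← ho, pow_orderOf_eq_one]
  have key : ∀ y ∈ T.A, orderOf (g * (y * t) * g⁻¹) = 2 := by
    intro y hy
    refine orderOf_eq_prime ?_ ?_
    · have e : t * y * t = y⁻¹ := by
        rw [← hinv y hy, inv_eq_of_mul_eq_one_right ht2]
      calc (g * (y * t) * g⁻¹) ^ 2 = g * (y * (t * y * t)) * g⁻¹ := by rw [pow_two]; group
        _ = 1 := by rw [e]; group
    · intro e
      have e' : y * t = 1 := conj_eq_one_iff.1 e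
      exact htA (by rw [← inv_eq_of_mul_eq_one_right e']; exact T.A.inv_mem hy)
  rw [Nat.card_eq_fintype_card, ← Finset.card_univ]
  refine Finset.card_le_card_of_injOn (fun x : ↥T.A => g * ((x : G) * t) * g⁻¹) ?_ ?_
  · intro x _
    rw [Finset.mem_coe, mem_invPairs]
    refine ⟨key x x.2, ?_⟩
    have e : t * (g⁻¹ * u * g) = (g⁻¹ * u * g)⁻¹ * t := by
      rw [← hinv _ hg]; group
    rw [show g * ((x : G) * t) * g⁻¹ * u = g * ((x : G) * (g⁻¹ * u * g)⁻¹ * t) * g⁻¹ by
      rw [mul_assoc (x : G), ← e]; group]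
    exact key _ (mul_mem x.2 (inv_mem hg))
  · intro x _ y _ h
    exact Subtype.ext (mul_right_cancel (mul_left_cancel (mul_right_cancel h)))

theorem card_cls : Fintype.card G * T.k ≤ Nat.card ↥T.A * T.cls.card := by
  classical
  let s : Finset (G × ↥T.A) := Finset.univ.filter fun p => p.2 ≠ 1
  let f : G × ↥T.A → G := fun p => p.1 * (p.2 : G) * p.1⁻¹
  have hs : s.card = Fintype.card G * (T.e * T.k) := by
    have e : s = (Finset.univ : Finset G) ×ˢ (Finset.univ.erase (1 : ↥T.A)) := by ext; simp [s]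
    rw [e, Finset.card_product, Finset.card_univ, Finset.card_erase_of_mem (Finset.mem_univ _),
      Finset.card_univ, ← Nat.card_eq_fintype_card (α := ↥T.A), T.hA, Nat.add_sub_cancel]
  have hsub : s.image f ⊆ T.cls := by
    intro u hu
    obtain ⟨p, hp, rfl⟩ := Finset.mem_image.1 hu
    have hp1 : p.2 ≠ 1 := (Finset.mem_filter.1 hp).2
    refine T.mem_cls.2 ⟨fun e => hp1 (Subtype.ext (conj_eq_one_iff.1 e)), p.1, ?_⟩
    simp [f, mul_assoc]
  have hfib : ∀ u ∈ s.image f, (s.filter fun p => f p = u).card ≤ T.e * Nat.card ↥T.A := by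
    intro u hu
    obtain ⟨p₀, hp₀, rfl⟩ := Finset.mem_image.1 hu
    rw [← card_normalizer T.hrel, Nat.card_eq_fintype_card, ← Fintype.card_coe]
    have hN : ∀ p ∈ s.filter (fun p => f p = f p₀),
        p₀.1⁻¹ * p.1 ∈ Subgroup.normalizer (T.A : Set G) := by
      intro p hp
      obtain ⟨hp, he⟩ := Finset.mem_filter.1 hp
      have hp1 : p.2 ≠ 1 := (Finset.mem_filter.1 hp).2
      by_contra hcon
      refine hp1 (Subtype.ext (T.hsc.hTI _ hcon _ p.2.2 ?_))
      rw [show p₀.1⁻¹ * p.1 * (p.2 : G) * (p₀.1⁻¹ * p.1)⁻¹ = p₀.1⁻¹ * f p * p₀.1 by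
        simp only [f]; group, he]
      simp [f, mul_assoc]
    refine Fintype.card_le_of_injective
      (fun p => (⟨p₀.1⁻¹ * p.1.1, hN p.1 p.2⟩ : ↥(Subgroup.normalizer (T.A : Set G)))) ?_
    rintro ⟨⟨g, b⟩, hp⟩ ⟨⟨g', b'⟩, hp'⟩ h
    have hg : g = g' := mul_left_cancel (congrArg Subtype.val h)
    subst hg
    have e := (Finset.mem_filter.1 hp).2.trans (Finset.mem_filter.1 hp').2.symm
    have : b = b' := Subtype.ext (mul_left_cancel (mul_right_cancel e))
    subst this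
    rfl
  have h := Finset.card_le_mul_card_image s _ hfib
  rw [hs] at h
  have h2 : T.e * Nat.card ↥T.A * (s.image f).card ≤ T.e * Nat.card ↥T.A * T.cls.card :=
    Nat.mul_le_mul_left _ (Finset.card_le_card hsub)
  refine Nat.le_of_mul_le_mul_left ?_ T.he0
  calc T.e * (Fintype.card G * T.k) = Fintype.card G * (T.e * T.k) := by ring
    _ ≤ T.e * Nat.card ↥T.A * T.cls.card := h.trans h2
    _ = T.e * (Nat.card ↥T.A * T.cls.card) := by ring

theorem le_sum_invPairs : T.k * Fintype.card G ≤ ∑ u ∈ T.cls, (invPairs u).card :=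
  calc T.k * Fintype.card G ≤ Nat.card ↥T.A * T.cls.card := (mul_comm _ _).trans_le T.card_cls
    _ = ∑ _u ∈ T.cls, Nat.card ↥T.A := by rw [Finset.sum_const, smul_eq_mul, mul_comm]
    _ ≤ _ := Finset.sum_le_sum fun u hu => T.le_invPairs hu

end Tor

theorem Apart.disjoint_cls {T T' : Tor G} (h : Apart T T') : Disjoint T.cls T'.cls := by
  rw [Finset.disjoint_left]
  intro u hu hu'
  obtain ⟨hu1, g, hg⟩ := T.mem_cls.1 hu
  obtain ⟨-, g', hg'⟩ := T'.mem_cls.1 hu'
  refine h.not_mem hg ?_ (g'⁻¹ * g) ?_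
  · intro e
    apply hu1
    have : u = g * (g⁻¹ * u * g) * g⁻¹ := by group
    rw [this, e]; simp
  · convert hg' using 1
    group

theorem Apart.coprime {T T' : Tor G} (h : Apart T T') :
    Nat.Coprime (Nat.card ↥T.A) (Nat.card ↥T'.A) := by
  classical
  rw [Nat.coprime_iff_gcd_eq_one]
  by_contra hne
  obtain ⟨p, hp, hpd⟩ := Nat.exists_prime_and_dvd hne
  haveI : Fact p.Prime := ⟨hp⟩
  have hpA : p ∣ Nat.card ↥T.A := hpd.trans (Nat.gcd_dvd_left _ _)
  obtain ⟨x, hx⟩ := exists_prime_orderOf_dvd_card' p (hpd.trans (Nat.gcd_dvd_right _ _))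
  have hcop := CfsgLib.TIFN.coprime_index T.hsc.hTI T.hsc.hC
  have hpi : ¬ p ∣ T.A.index := fun hd =>
    hp.not_dvd_one ((Nat.Coprime.gcd_eq_one hcop) ▸ Nat.dvd_gcd hpA hd)
  obtain ⟨S⟩ : Nonempty (Sylow p ↥T.A) := inferInstance
  have hcard : Nat.card ↥((S : Subgroup ↥T.A).map T.A.subtype) = p ^ (Nat.card G).factorization p := by
    rw [Subgroup.card_map_of_injective T.A.subtype_injective, S.card_eq_multiplicity,
      ← Subgroup.card_mul_index T.A, Nat.factorization_mul Nat.card_pos.ne'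
        Subgroup.index_ne_zero_of_finite, Finsupp.add_apply,
      Nat.factorization_eq_zero_of_not_dvd hpi, add_zero]
  obtain ⟨Q, hQ⟩ := (IsPGroup.of_card (p := p) (n := 1) (G := ↥(Subgroup.zpowers (x : G)))
    (by rw [Nat.card_zpowers, Subgroup.orderOf_coe, hx, pow_one])).exists_le_sylow
  obtain ⟨g, hg⟩ := MulAction.exists_smul_eq G Q
    (Sylow.ofCard ((S : Subgroup ↥T.A).map T.A.subtype) hcard)
  have hxne : (x : G) ≠ 1 := fun e => hp.ne_one (by
    rw [← hx, Subtype.ext e (a2 := (1 : ↥T'.A)), orderOf_one])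
  refine h.symm.not_mem x.2 hxne g ?_
  have hm : g * (x : G) * g⁻¹ ∈ ((g • Q : Sylow p G) : Subgroup G) := by
    rw [Sylow.coe_subgroup_smul, Subgroup.mem_smul_pointwise_iff_exists]
    exact ⟨x, hQ (Subgroup.mem_zpowers _), by simp [MulAut.conj_apply]⟩
  rw [hg] at hm
  exact (Subgroup.map_subtype_le (S : Subgroup ↥T.A)) hm

end CfsgLib.SuzSelfCent

end
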